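import Mathlib

/-!
# Simple groups with the centraliser of an involution the general linear group over three elements:
the two Diophantine equations
-/

set_option autoImplicit false

namespace Cfsg.Agent.Lib.GLTwoThree

def firstOK (d p : ℤ) : Bool :=
  let s := d + p
  let num := 4608 * (s * (s + 1))
  if d == 0 || num % (d * d) != 0 then true else
    let n := num / (d * d)
    if n % 48 != 0 || n % 32 == 0 || n ≤ 0 || s == 0 || s + 1 == 0 then true else
      if n % s != 0 || n % (s + 1) != 0 then true else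
        n == 5616 || n == 7920 || n == 2160 || n == 3696 || n == 3024 || n == 6480

theorem first_check : ∀ i < 965, ∀ j < 6, firstOK ((i : ℕ) - 482) ((j : ℕ) - 3) = true := by
  decide +kernel

/-- The possible orders from the first equation. -/
theorem first_eq {n s p : ℤ} (hn : 48 ∣ n) (h32 : ¬ 32 ∣ n) (hpos : 0 < n) (hp : -3 ≤ p ∧ p ≤ 2)
    (hs : s ≠ 0) (hs1 : s + 1 ≠ 0) (hsn : s ∣ n) (hs1n : s + 1 ∣ n)
    (h : n * (s - p) ^ 2 = 4608 * (s * (s + 1))) :
    n = 5616 ∨ n = 7920 ∨ n = 2160 ∨ n = 3696 ∨ n = 3024 ∨ n = 6480 := by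
  set d := s - p with hd
  have hd0 : d ≠ 0 := by
    intro h0
    rw [h0] at h
    rcases mul_eq_zero.1 (show (s * (s + 1) : ℤ) = 0 by linarith) with h' | h' <;> contradiction
  have hkey : (n - 4608) * d ^ 2 = 4608 * ((2 * p + 1) * d + p * (p + 1)) := by
    have : s = d + p := by linarith
    rw [this] at h; linear_combination h
  have h48 : n ≤ 4560 ∨ 4656 ≤ n := by
    obtain ⟨k, rfl⟩ := hn
    by_contra hc
    push Not at hc
    have : k = 96 := by omega
    subst this
    exact h32 ⟨144, by norm_num⟩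
  have hb : -482 ≤ d ∧ d ≤ 482 := by
    obtain ⟨hp1, hp2⟩ := hp
    have hA : -5 ≤ 2 * p + 1 ∧ 2 * p + 1 ≤ 5 := by omega
    have hB : 0 ≤ p * (p + 1) ∧ p * (p + 1) ≤ 6 := by
      interval_cases p <;> norm_num
    have hsq : 48 * d ^ 2 ≤ |(n - 4608) * d ^ 2| := by
      rw [abs_mul, abs_of_nonneg (sq_nonneg d)]
      refine mul_le_mul_of_nonneg_right ?_ (sq_nonneg d)
      rw [le_abs]; omega
    rw [hkey, abs_mul, abs_of_pos (show (0 : ℤ) < 4608 by norm_num)] at hsq
    have habs : |(2 * p + 1) * d + p * (p + 1)| ≤ 5 * |d| + 6 := by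
      refine (abs_add_le _ _).trans (add_le_add ?_ ?_)
      · rw [abs_mul]
        exact mul_le_mul_of_nonneg_right (abs_le.2 hA) (abs_nonneg d)
      · rw [abs_of_nonneg hB.1]; exact hB.2
    have hd2 : d ^ 2 = |d| * |d| := by rw [← sq, sq_abs]
    have : |d| ≤ 482 := by
      by_contra hc
      push Not at hc
      nlinarith
    exact abs_le.1 this
  obtain ⟨i, hi⟩ : ∃ i : ℕ, (i : ℤ) - 482 = d := ⟨(d + 482).toNat, by omega⟩
  obtain ⟨j, hj⟩ : ∃ j : ℕ, (j : ℤ) - 3 = p := ⟨(p + 3).toNat, by omega⟩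
  have hc := first_check i (by omega) j (by omega)
  rw [hi, hj] at hc
  have hdp : d + p = s := by omega
  have hnum : 4608 * (s * (s + 1)) / (d * d) = n := by
    rw [← h, ← sq, Int.mul_ediv_cancel _ (pow_ne_zero 2 hd0)]
  have hmod : 4608 * (s * (s + 1)) % (d * d) = 0 := by
    rw [← h, ← sq, Int.mul_emod_left]
  unfold firstOK at hc
  simp only [hdp, hnum] at hc
  have e1 : n % 48 = 0 := Int.emod_eq_zero_of_dvd hn
  have e2 : n % 32 ≠ 0 := fun e => h32 (Int.dvd_of_emod_eq_zero e)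
  have e3 : n % s = 0 := Int.emod_eq_zero_of_dvd hsn
  have e4 : n % (s + 1) = 0 := Int.emod_eq_zero_of_dvd hs1n
  simp only [beq_iff_eq, Bool.or_eq_true, bne_iff_ne, decide_eq_true_eq, hd0, hmod, e1, e2, e3, e4, hs,
    hs1, ne_eq, not_true_eq_false, or_self, or_false, false_or, if_false, not_le.2 hpos] at hc
  omega

def secondOK (n x a : ℤ) : Bool :=
  n * (x * (x + 1) + a * a * (1 + x) - (7 - a) * (7 - a) * x) != 9216 * (x * (x + 1))

theorem second_check : ∀ n ∈ ([2160, 3696, 3024, 6480] : List ℤ), ∀ i < 263, ∀ j < 6,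
    i ≠ 131 → i ≠ 130 → secondOK n ((i : ℕ) - 131) ((j : ℕ) + 1) = true := by
  decide +kernel

/-- The second equation excludes four of the orders. -/
theorem second_eq {n x a : ℤ} (hn : n = 2160 ∨ n = 3696 ∨ n = 3024 ∨ n = 6480) (ha : 1 ≤ a ∧ a ≤ 6)
    (hx : x ≠ 0) (hx1 : x + 1 ≠ 0)
    (h : n * (x * (x + 1) + a * a * (1 + x) - (7 - a) * (7 - a) * x) = 9216 * (x * (x + 1))) : False := by
  have hq : (n - 9216) * x ^ 2 + (n * (14 * a - 48) - 9216) * x + n * a ^ 2 = 0 := by
    linear_combination h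
  have hb : -131 ≤ x ∧ x ≤ 131 := by
    have hA : |n - 9216| ≥ 2736 := by
      rw [ge_iff_le, le_abs]; omega
    have hB : |n * (14 * a - 48) - 9216| ≤ 242496 := by
      rw [abs_le]; constructor <;> rcases hn with rfl | rfl | rfl | rfl <;> omega
    have hC : |n * a ^ 2| ≤ 233280 := by
      rw [abs_mul, abs_of_nonneg (sq_nonneg a)]
      have h1 : |n| ≤ 6480 := by rcases hn with rfl | rfl | rfl | rfl <;> norm_num
      have h2 : a ^ 2 ≤ 36 := by nlinarith
      nlinarith [abs_nonneg n, sq_nonneg a]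
    rw [← abs_le]
    by_contra hc
    push Not at hc
    have h1 : |(n - 9216) * x ^ 2| ≤ |n * (14 * a - 48) - 9216| * |x| + |n * a ^ 2| := by
      rw [show (n - 9216) * x ^ 2 = -((n * (14 * a - 48) - 9216) * x + n * a ^ 2) by linarith, abs_neg,
        ← abs_mul]
      exact abs_add_le _ _
    rw [abs_mul, abs_pow, sq] at h1
    nlinarith [abs_nonneg x, mul_le_mul_of_nonneg_right hA (mul_nonneg (abs_nonneg x) (abs_nonneg x)),
      mul_le_mul_of_nonneg_right hB (abs_nonneg x)]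
  obtain ⟨i, hi⟩ : ∃ i : ℕ, (i : ℤ) - 131 = x := ⟨(x + 131).toNat, by omega⟩
  obtain ⟨j, hj⟩ : ∃ j : ℕ, (j : ℤ) + 1 = a := ⟨(a - 1).toNat, by omega⟩
  have hc := second_check n (by simpa using hn) i (by omega) j (by omega) (by omega) (by omega)
  rw [hi, hj] at hc
  simp only [secondOK, bne_iff_ne, ne_eq] at hc
  exact hc h

end Cfsg.Agent.Lib.GLTwoThree
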