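import Cfsg.Agent.Lib.GLTwoThree.Model
import Cfsg.Agent.Lib.Char.Induced
import Cfsg.Agent.Lib.Char.Order7920Tools
import Cfsg.Agent.Lib.CharTools.ClassMult
import Cfsg.Agent.Lib.Fusion.DihedralType

/-!
# Simple groups with the centraliser of an involution the general linear group over three elements:
the induced virtual characters
-/

set_option autoImplicit false
set_option linter.unusedSectionVars false
set_option linter.style.haveILetI false
set_option synthInstance.maxSize 1024

namespace Cfsg.Agent.Lib.GLTwoThree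

open Cfsg Subgroup Cfsg.Agent.Lib.Char Cfsg.Agent.Lib.CharTools
open scoped ComplexConjugate

universe u

variable {G : Type u} [Group G] [Finite G] {t : G}
  (ht : orderOf t = 2) (e : centralizer ({t} : Set G) ≃* GL23)

/-- The involution inside its centraliser. -/
def tC (t : G) : centralizer ({t} : Set G) := ⟨t, mem_centralizer_singleton_iff.2 rfl⟩

include ht in
theorem t_mul_t : t * t = 1 := by rw [← sq, ← ht, pow_orderOf_eq_one]

include ht in
theorem t_ne_one : t ≠ 1 := fun h => by rw [h, orderOf_one] at ht; norm_num at ht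

include ht in
theorem e_tC : e (tC t) = zz := by
  refine eq_zz_of_central (fun x => ?_) ?_ ?_
  · obtain ⟨y, rfl⟩ := e.surjective x
    rw [← map_mul, ← map_mul]
    exact congrArg e (Subtype.ext (mem_centralizer_singleton_iff.1 y.2))
  · rw [← map_mul, show tC t * tC t = 1 from Subtype.ext (t_mul_t ht), map_one]
  · intro h
    rw [← map_one e] at h
    exact t_ne_one ht (congrArg Subtype.val (e.injective h))

include e in
theorem card_centralizer : Nat.card (centralizer ({t} : Set G)) = 48 := by
  rw [Nat.card_congr e.toEquiv, card_gl]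

include ht in
/-- The supported elements of the centraliser have the involution as a power. -/
theorem pow_of_supp {c : centralizer ({t} : Set G)} (h : Supp (e c)) :
    ∃ k < 5, (c : G) ^ k = t := by
  obtain ⟨k, hk, hk'⟩ := (supp_pow h).1
  refine ⟨k, hk, ?_⟩
  rw [← e_tC ht e, ← map_pow] at hk'
  exact congrArg Subtype.val (e.injective hk')

include ht in
theorem mem_of_conj {x : G} {c : centralizer ({t} : Set G)} (hc : Supp (e c))
    (hm : x⁻¹ * c * x ∈ centralizer ({t} : Set G)) (hy : Supp (e ⟨_, hm⟩)) :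
    x ∈ centralizer ({t} : Set G) := by
  obtain ⟨k, hk, hk'⟩ := pow_of_supp ht e hc
  set y : centralizer ({t} : Set G) := ⟨_, hm⟩ with hydef
  have hyk : ((y ^ k : centralizer ({t} : Set G)) : G) = x⁻¹ * t * x := by
    rw [SubmonoidClass.coe_pow]
    show (x⁻¹ * (c : G) * x) ^ k = _
    rw [show x⁻¹ * (c : G) * x = x⁻¹ * c * x⁻¹⁻¹ by rw [inv_inv], conj_pow, hk', inv_inv]
  have hz : y ^ k = tC t := by
    apply e.injective
    rw [e_tC ht e, map_pow]
    refine (supp_pow hy).2 k hk ?_ ?_
    · rw [← map_pow, ← map_mul, ← map_one e]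
      refine congrArg e (Subtype.ext ?_)
      rw [Subgroup.coe_mul, hyk, Subgroup.coe_one,
        show x⁻¹ * t * x * (x⁻¹ * t * x) = x⁻¹ * (t * t) * x by group, t_mul_t ht]
      group
    · rw [← map_pow, ← map_one e]
      intro h
      have h' := congrArg Subtype.val (e.injective h)
      rw [hyk, Subgroup.coe_one] at h'
      exact t_ne_one ht (by
        calc t = x * (x⁻¹ * t * x) * x⁻¹ := by group
          _ = 1 := by rw [h']; group)
  rw [hz] at hyk
  refine mem_centralizer_singleton_iff.2 ?_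
  calc x * t = x * (x⁻¹ * t * x) := by rw [← hyk]; rfl
    _ = t * x := by group

/-- Induction from the centraliser. -/
noncomputable def Ind [Fintype G] (φ : GL23 → ℂ) : G → ℂ :=
  indFun (centralizer ({t} : Set G)) (fun c => φ (e c))

/-- A function carried by the elements having the central involution as a power. -/
structure Carried (φ : GL23 → ℂ) : Prop where
  conjInv : ∀ g h : GL23, φ (g * h * g⁻¹) = φ h
  supp : ∀ g : GL23, φ g ≠ 0 → Supp g
  gen : IsGeneralizedCharacter GL23 φ
  real : ∀ g : GL23, conj (φ g) = φ g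

theorem carried_d : Carried dFun :=
  ⟨dFun_conj, fun _ => supp_of_dFun, dFun_gen, fun g => (conj_apply_real g).1⟩

theorem carried_a : Carried aFun :=
  ⟨aFun_conj, fun _ => supp_of_aFun, aFun_gen, fun g => (conj_apply_real g).2⟩

/-! ### Fusion and the Sylow order -/

section fusion

include ht e in
theorem exists_noncomm : ∃ a b : G, a * b ≠ b * a := by
  obtain ⟨a, ha⟩ := quadEquiv.surjective ⟨(1, 1, 0, 1), by decide⟩
  obtain ⟨b, hb⟩ := quadEquiv.surjective ⟨(1, 0, 1, 1), by decide⟩
  refine ⟨(e.symm a : centralizer ({t} : Set G)), (e.symm b : centralizer ({t} : Set G)), fun h => ?_⟩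
  have h' : e.symm a * e.symm b = e.symm b * e.symm a := Subtype.ext h
  rw [← map_mul, ← map_mul] at h'
  have h'' := congrArg toQuad (e.symm.injective h')
  rw [toQuad_mul, toQuad_mul, show toQuad a = _ from congrArg Subtype.val ha,
    show toQuad b = _ from congrArg Subtype.val hb] at h''
  revert h''
  decide

include ht e in
theorem exists_order_four_sylow :
    ∃ S : Subgroup G, S ≤ centralizer ({t} : Set G) ∧ Nat.card S = 16 ∧ t ∈ S ∧
      ∃ Q : Subgroup G, Q ≤ S ∧ Nat.card Q = 8 ∧ (∀ y ∈ Q, y * y = 1 → y ≠ 1 → y = t) ∧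
        (∀ y ∈ Q, y * y = 1 ∨ y * y = t) := by
  haveI : Fact (Nat.Prime 2) := ⟨Nat.prime_two⟩
  obtain ⟨Q0⟩ : Nonempty (Sylow 2 slSub) := inferInstance
  have hQ0 : Nat.card (Q0 : Subgroup slSub) = 8 :=
    (SmallSimple.card_sylow_subgroup Q0 (k := 3) (m := 3) (by rw [card_slSub]; norm_num) (by norm_num)).trans
      (by norm_num)
  set Q1 : Subgroup GL23 := (Q0 : Subgroup slSub).map slSub.subtype with hQ1
  have hQ1c : Nat.card Q1 = 8 := by rw [hQ1, card_map_of_injective slSub.subtype_injective, hQ0]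
  obtain ⟨S1, hS1⟩ := (IsPGroup.of_card (n := 3) (by rw [hQ1c]; norm_num) : IsPGroup 2 Q1).exists_le_sylow
  have hS1c : Nat.card (S1 : Subgroup GL23) = 16 :=
    (SmallSimple.card_sylow_subgroup S1 (k := 4) (m := 3) (by rw [card_gl]; norm_num) (by norm_num)).trans
      (by norm_num)
  set f : GL23 →* G := (centralizer ({t} : Set G)).subtype.comp e.symm.toMonoidHom with hf
  have hfi : Function.Injective f :=
    (centralizer ({t} : Set G)).subtype_injective.comp e.symm.injective
  have hz : f zz = t := by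
    rw [← e_tC ht e]
    simp [hf, tC]
  have huniq : ∀ y ∈ Q1, y * y = 1 → y ≠ 1 → y = zz := by
    rintro y ⟨w, -, rfl⟩ hy hy1
    exact eq_zz_of_det_one (qdet_of_mem w.2) hy hy1
  have hzQ : zz ∈ Q1 := by
    obtain ⟨y, hy⟩ := exists_prime_orderOf_dvd_card' (G := Q1) 2 (by rw [hQ1c]; norm_num)
    have h2 : (y : GL23) * y = 1 := by
      have h := pow_orderOf_eq_one y
      rw [hy, pow_two] at h
      exact congrArg Subtype.val h
    have h1 : (y : GL23) ≠ 1 := fun h => by
      rw [show y = 1 from Subtype.ext h, orderOf_one] at hy; norm_num at hy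
    exact huniq y y.2 h2 h1 ▸ y.2
  refine ⟨(S1 : Subgroup GL23).map f, ?_, ?_, ⟨zz, hS1 hzQ, hz⟩, Q1.map f,
    map_mono hS1, ?_, ?_, ?_⟩
  · rintro _ ⟨w, -, rfl⟩
    exact (e.symm w).2
  · rw [card_map_of_injective hfi, hS1c]
  · rw [card_map_of_injective hfi, hQ1c]
  · rintro _ ⟨w, hw, rfl⟩ hy hy1
    rw [← map_mul, ← map_one f] at hy
    rw [huniq w hw (hfi hy) (fun h => hy1 (by rw [h, map_one])), hz]
  · rintro _ ⟨w, hw, rfl⟩
    have hw' := hw
    obtain ⟨x, -, rfl⟩ := hw'
    have key : ∀ v : Quad, qdet v = 1 → qpow v 8 = qone → qmul v v = qone ∨ qmul v v = qneg := by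
      decide +kernel
    have hd := orderOf_dvd_natCard (⟨slSub.subtype x, hw⟩ : Q1)
    rw [orderOf_mk, hQ1c] at hd
    have h8 : (slSub.subtype x) ^ 8 = 1 := orderOf_dvd_iff_pow_eq_one.1 hd
    rw [← map_mul, ← map_one f, ← hz, hfi.eq_iff, hfi.eq_iff, toQuad_eq_one, ← toQuad_injective.eq_iff,
      toQuad_zz, toQuad_mul]
    refine key _ (qdet_of_mem x.2) ?_
    rw [← toQuad_pow]
    exact toQuad_eq_one.1 h8

include ht e in
/-- A Sylow subgroup for two has order sixteen. -/
theorem not_thirtytwo : ¬ 32 ∣ Nat.card G := by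
  haveI : Fact (Nat.Prime 2) := ⟨Nat.prime_two⟩
  intro h32
  obtain ⟨S, hSC, hS, htS, Q, hQS, hQ, hQu, hQsq⟩ := exists_order_four_sylow ht e
  obtain ⟨y, hyQ, hy4⟩ : ∃ y ∈ Q, y * y ≠ 1 := by
    by_contra hc
    push Not at hc
    have hsub : ∀ y : Q, (y : G) = 1 ∨ (y : G) = t := fun y =>
      or_iff_not_imp_left.2 fun h1 => hQu y y.2 (hc y y.2) h1
    have hle : Q ≤ zpowers t := fun y hy => by
      rcases hsub ⟨y, hy⟩ with h | h
      · simp only at h; rw [h]; exact one_mem _
      · simp only at h; rw [h]; exact mem_zpowers t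
    have := card_dvd_of_le hle
    rw [hQ, Nat.card_zpowers, ht] at this
    norm_num at this
  obtain ⟨T, hTcard, hST⟩ := Sylow.exists_subgroup_card_pow_succ (p := 2) (n := 4)
    (by simpa using h32) (H := S) (by rw [hS]; norm_num)
  have hidx : (S.subgroupOf T).index = 2 := by
    have h := (S.subgroupOf T).card_mul_index
    rw [Nat.card_congr (subgroupOfEquivOfLe hST).toEquiv, hS, hTcard] at h
    norm_num at h
    omega
  haveI := Subgroup.normal_of_index_eq_two hidx
  have hnorm : T ≤ normalizer (S : Set G) := (normal_subgroupOf_iff_le_normalizer hST).1 inferInstance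
  have hTC : T ≤ centralizer ({t} : Set G) := by
    intro g hg
    have hgy : g * y * g⁻¹ ∈ S := (mem_normalizer_iff.1 (hnorm hg) y).1 (hQS hyQ)
    have hy2 : y * y = t := (hQsq y hyQ).resolve_left hy4
    have hgy4 : (g * y * g⁻¹) * (g * y * g⁻¹) = t := by
      set w : centralizer ({t} : Set G) := ⟨_, hSC hgy⟩ with hw
      have h4 : w * w * (w * w) = 1 := Subtype.ext (by
        show g * y * g⁻¹ * (g * y * g⁻¹) * (g * y * g⁻¹ * (g * y * g⁻¹)) = 1
        rw [show g * y * g⁻¹ * (g * y * g⁻¹) = g * (y * y) * g⁻¹ by group, hy2,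
          show g * t * g⁻¹ * (g * t * g⁻¹) = g * (t * t) * g⁻¹ by group, t_mul_t ht]
        group)
      have h2 : e w * e w ≠ 1 := by
        intro h
        rw [← map_mul, ← map_one e] at h
        have h' : g * y * g⁻¹ * (g * y * g⁻¹) = 1 := congrArg Subtype.val (e.injective h)
        rw [show g * y * g⁻¹ * (g * y * g⁻¹) = g * (y * y) * g⁻¹ by group, hy2, conj_eq_one_iff] at h'
        exact t_ne_one ht h'
      have := sq_eq_zz (g := e w) (by rw [← map_mul, ← map_mul, h4, map_one]) h2
      rw [← map_mul, ← e_tC ht e] at this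
      exact congrArg Subtype.val (e.injective this)
    refine mem_centralizer_singleton_iff.2 ?_
    rw [show g * y * g⁻¹ * (g * y * g⁻¹) = g * (y * y) * g⁻¹ by group, hy2] at hgy4
    calc g * t = g * t * g⁻¹ * g := by group
      _ = t * g := by rw [hgy4]
  have := card_dvd_of_le hTC
  rw [hTcard, card_centralizer e] at this
  norm_num at this

end fusion

variable [Fintype G]

theorem ind_classFun (φ : GL23 → ℂ) : IsClassFunction G (Ind e φ) := isClassFunction_indFun _ _

theorem ind_gen {φ : GL23 → ℂ} (hφ : Carried φ) : IsGeneralizedCharacter G (Ind e φ) := by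
  obtain ⟨a, b, ha, hb, rfl⟩ := hφ.gen
  refine ⟨_, _, isCharacter_indFun _ (isCharacter_comp ha e.toMonoidHom),
    isCharacter_indFun _ (isCharacter_comp hb e.toMonoidHom), ?_⟩
  rw [← indFun_sub]
  rfl

theorem classFun_comp {φ : GL23 → ℂ} (hφ : Carried φ) :
    IsClassFunction (centralizer ({t} : Set G)) (fun c => φ (e c)) := fun g h => by
  show φ (e (h * g * h⁻¹)) = φ (e g)
  rw [map_mul, map_mul, map_inv, hφ.conjInv]

include ht in
theorem ind_apply {φ : GL23 → ℂ} (hφ : Carried φ) {c : centralizer ({t} : Set G)} (hc : Supp (e c)) :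
    Ind e φ c = φ (e c) := by
  classical
  have hx : ∀ x : G, extendByZero (centralizer ({t} : Set G)) (fun c => φ (e c)) (x⁻¹ * c * x) =
      if x ∈ centralizer ({t} : Set G) then φ (e c) else 0 := by
    intro x
    by_cases hxH : x ∈ centralizer ({t} : Set G)
    · rw [if_pos hxH]
      have := extendByZero_conj (classFun_comp e hφ) ((centralizer ({t} : Set G)).inv_mem hxH) (c : G)
      rw [inv_inv, extendByZero_coe] at this
      exact this
    · rw [if_neg hxH]
      by_cases hm : x⁻¹ * c * x ∈ centralizer ({t} : Set G)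
      · rw [extendByZero_mem _ _ hm]
        by_contra hne
        exact hxH (mem_of_conj ht e hc hm (hφ.supp _ hne))
      · rw [extendByZero_not_mem _ _ hm]
  simp only [Ind, indFun]
  simp only [hx]
  rw [← Finset.sum_filter, Finset.sum_const, nsmul_eq_mul, ← Fintype.card_subtype,
    ← Nat.card_eq_fintype_card, ← mul_assoc]
  exact (congrArg (· * φ (e c)) (inv_mul_cancel₀ (card_ne_zero_complex (centralizer ({t} : Set G))))).trans (one_mul _)

theorem sum_comp [Fintype GL23] [Fintype (centralizer ({t} : Set G))] (f : GL23 → ℂ) :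
    ∑ c : centralizer ({t} : Set G), f (e c) = ∑ g : GL23, f g :=
  Fintype.sum_equiv e.toEquiv _ _ fun _ => rfl

include ht in
theorem inner_ind [Fintype GL23] {φ ψ : GL23 → ℂ} (hφ : Carried φ) (hψ : Carried ψ) :
    classInner (Ind e φ) (Ind e ψ) = (48 : ℂ)⁻¹ * ∑ g : GL23, φ g * ψ g := by
  classical
  haveI := Fintype.ofFinite (centralizer ({t} : Set G))
  rw [Ind, classInner_indFun _ _ (ind_classFun e ψ), classInner, card_centralizer e,
    ← sum_comp e (fun g => φ g * ψ g)]
  norm_num only [Nat.cast_ofNat]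
  congr 1
  refine Finset.sum_congr rfl fun c _ => ?_
  by_cases h : φ (e c) = 0
  · simp [h]
  · rw [ind_apply ht e hψ (hφ.supp _ h), hψ.real]

theorem inner_one [Fintype GL23] (φ : GL23 → ℂ) :
    classInner (Ind e φ) (fun _ => (1 : ℂ)) = (48 : ℂ)⁻¹ * ∑ g : GL23, φ g := by
  classical
  haveI := Fintype.ofFinite (centralizer ({t} : Set G))
  rw [Ind, classInner_indFun _ _ (fun _ _ => rfl), classInner, card_centralizer e, ← sum_comp e φ]
  simp

include ht in
theorem ind_one {φ : GL23 → ℂ} (h1 : φ 1 = 0) : Ind e φ 1 = 0 := by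
  rw [Ind, indFun_one, map_one, h1, mul_zero]


end Cfsg.Agent.Lib.GLTwoThree
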