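import Cfsg.Agent.Lib.GLTwoThree.Pairs
import Cfsg.Agent.Lib.GLTwoThree.Arith
import Cfsg.Agent.Lib.SmallSimple.DegreeSquare

/-!
# A simple group with the centraliser of an involution the general linear group over three elements
has order 5616 or 7920
-/

set_option autoImplicit false
set_option linter.unusedSectionVars false
set_option linter.style.haveILetI false

namespace Cfsg.Agent.Lib.GLTwoThree

open Cfsg Subgroup Cfsg.Agent.Lib.Char
open Cfsg.Agent.Lib.Char.O7920 (princ princ_apply princ_degree one_lt_degree sum_norm)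
open scoped ComplexConjugate

universe u

variable {G : Type u} [Group G] [Finite G]

/-- A virtual character of norm three containing the principal character once. -/
theorem exists_norm_three [Fintype G] {τ : G → ℂ} (h : IsGeneralizedCharacter G τ)
    (h3 : classInner τ τ = 3) (h1 : classInner τ (fun _ => (1 : ℂ)) = 1) :
    ∃ a b : IrrCharacter G, ∃ ea eb : ℤ, a ≠ princ G ∧ b ≠ princ G ∧ a ≠ b ∧ ea * ea = 1 ∧ eb * eb = 1 ∧
      (classInner τ (a : G → ℂ) = ea) ∧ (classInner τ (b : G → ℂ) = eb) ∧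
      ∀ F : IrrCharacter G → ℂ, ∑ χ : IrrCharacter G, classInner τ (χ : G → ℂ) * F χ =
        F (princ G) + ea * F a + eb * F b := by
  classical
  choose z hz using generalized_classInner_int h
  have hsq : ∑ χ : IrrCharacter G, z χ * z χ = 3 := by
    have h' := classInner_eq_sum (φ := τ) (isClassFunction_of_generalized h)
    rw [h3] at h'
    simp only [hz, map_intCast] at h'
    exact_mod_cast h'.symm
  have hz1 : z (princ G) = 1 := by
    have h' := hz (princ G)
    rw [show ((princ G : IrrCharacter G) : G → ℂ) = fun _ => (1 : ℂ) from rfl, h1] at h'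
    exact_mod_cast h'.symm
  set S := (Finset.univ.erase (princ G)).filter fun χ => z χ ≠ 0 with hS
  have hrest : ∑ χ ∈ Finset.univ.erase (princ G), z χ * z χ = 2 := by
    have h' := Finset.add_sum_erase Finset.univ (fun χ => z χ * z χ) (Finset.mem_univ (princ G))
    simp only [hz1, hsq] at h'
    linarith
  have hS2 : ∑ χ ∈ S, z χ * z χ = 2 := by
    rw [hS, ← hrest]
    refine Finset.sum_subset (Finset.filter_subset _ _) fun χ hχ hχ' => ?_
    by_contra hne
    exact hχ' (Finset.mem_filter.2 ⟨hχ, fun h0 => hne (by simp [h0])⟩)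
  have hle : (S.card : ℤ) ≤ 2 := by
    rw [← hS2, Finset.card_eq_sum_ones, Nat.cast_sum]
    refine Finset.sum_le_sum fun χ hχ => ?_
    have := mul_self_pos.2 (Finset.mem_filter.1 hχ).2
    omega
  have hcard : S.card = 2 := by
    have hle' : S.card ≤ 2 := by exact_mod_cast hle
    interval_cases hc : S.card
    · rw [Finset.card_eq_zero.1 hc, Finset.sum_empty] at hS2; norm_num at hS2
    · obtain ⟨c, hc'⟩ := Finset.card_eq_one.1 hc
      rw [hc', Finset.sum_singleton] at hS2
      have : z c < 2 ∧ -2 < z c := by constructor <;> nlinarith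
      obtain ⟨hlo, hhi⟩ := this
      interval_cases (z c) <;> norm_num at hS2
    · rfl
  obtain ⟨a, b, hab, hSab⟩ := Finset.card_eq_two.1 hcard
  have ha : a ∈ S := by rw [hSab]; simp
  have hb : b ∈ S := by rw [hSab]; simp
  have hpa := mul_self_pos.2 (Finset.mem_filter.1 ha).2
  have hpb := mul_self_pos.2 (Finset.mem_filter.1 hb).2
  rw [hSab, Finset.sum_pair hab] at hS2
  refine ⟨a, b, z a, z b, (Finset.mem_erase.1 (Finset.mem_filter.1 ha).1).1,
    (Finset.mem_erase.1 (Finset.mem_filter.1 hb).1).1, hab, by omega, by omega, hz a, hz b, fun F => ?_⟩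
  simp only [hz]
  rw [← Finset.add_sum_erase _ _ (Finset.mem_univ (princ G)), hz1, Int.cast_one, one_mul, add_assoc,
    ← Finset.sum_pair hab (f := fun χ => (z χ : ℂ) * F χ), ← hSab, hS]
  congr 1
  refine (Finset.sum_subset (Finset.filter_subset _ _) fun χ hχ hχ' => ?_).symm
  by_contra hne
  exact hχ' (Finset.mem_filter.2 ⟨hχ, fun h0 => hne (by simp [h0])⟩)

variable [IsSimpleGroup G] {t : G} (ht : orderOf t = 2) (e : centralizer ({t} : Set G) ≃* GL23)

include ht e in
/-- Signed degrees and values of the three constituents of an induced virtual character. -/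
theorem exists_data [Fintype G] [Fintype GL23] {φ : GL23 → ℂ} (hφ : Carried φ) (hφ1 : φ 1 = 0)
    (hs : ∑ g : GL23, φ g = 48) (hsq : ∑ g : GL23, φ g * φ g = 144) {v N : ℤ} (hv : φ zz = v)
    (hN : ∑ g : GL23, φ g * (qn (toQuad g) : ℂ) = N) :
    ∃ a b : IrrCharacter G, ∃ ea eb s r p q : ℤ, a ≠ princ G ∧ b ≠ princ G ∧ a ≠ b ∧
      ea * ea = 1 ∧ eb * eb = 1 ∧
      (∀ F : IrrCharacter G → ℂ, ∑ χ : IrrCharacter G, classInner (Ind e φ) (χ : G → ℂ) * F χ =
        F (princ G) + ea * F a + eb * F b) ∧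
      s = ea * (charDegree (a : G → ℂ) : ℤ) ∧ r = eb * (charDegree (b : G → ℂ) : ℤ) ∧
      ((a : G → ℂ) t * (a : G → ℂ) t = (p * p : ℤ)) ∧ ((b : G → ℂ) t * (b : G → ℂ) t = (q * q : ℤ)) ∧
      1 + s + r = 0 ∧ 1 + p + q = v ∧ 1 < |s| ∧ 1 < |r| ∧ s ∣ (Nat.card G : ℤ) ∧ r ∣ (Nat.card G : ℤ) ∧
      (Nat.card G : ℤ) * (s * r + p * p * r + q * q * s) = 48 * N * (s * r) := by
  classical
  have hperf := perfect ht e
  obtain ⟨a, b, ea, eb, ha, hb, hab, hea, heb, -, -, hsum⟩ := exists_norm_three (ind_gen e hφ)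
    (by rw [inner_ind ht e hφ hφ, hsq]; norm_num) (by rw [inner_one, hs]; norm_num)
  obtain ⟨za, hza⟩ := SmallSimple.DegreeSquare.exists_int_apply (isCharacter_of_isIrr a.2) (t_mul_t ht)
  obtain ⟨zb, hzb⟩ := SmallSimple.DegreeSquare.exists_int_apply (isCharacter_of_isIrr b.2) (t_mul_t ht)
  have hda := apply_one_eq_charDegree (isCharacter_of_isIrr a.2)
  have hdb := apply_one_eq_charDegree (isCharacter_of_isIrr b.2)
  have hexp : ∀ g : G, Ind e φ g = 1 + ea * (a : G → ℂ) g + eb * (b : G → ℂ) g := by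
    intro g
    have h := congrFun (eq_sum_classInner_smul (ind_classFun e φ)) g
    simp only [Finset.sum_apply, Pi.smul_apply, smul_eq_mul] at h
    rw [h, hsum (fun χ => (χ : G → ℂ) g), princ_apply]
  refine ⟨a, b, ea, eb, ea * (charDegree (a : G → ℂ) : ℤ), eb * (charDegree (b : G → ℂ) : ℤ),
    ea * za, eb * zb, ha, hb, hab, hea, heb, hsum, rfl, rfl, ?_, ?_, ?_, ?_, ?_, ?_, ?_, ?_, ?_⟩
  · rw [hza]
    have : (ea * za) * (ea * za) = za * za := by linear_combination (za * za) * hea
    rw [this]; push_cast; ring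
  · rw [hzb]
    have : (eb * zb) * (eb * zb) = zb * zb := by linear_combination (zb * zb) * heb
    rw [this]; push_cast; ring
  · have h := hexp 1
    rw [ind_one ht e hφ1, hda, hdb] at h
    exact_mod_cast h.symm
  · have h := hexp t
    rw [show Ind e φ t = Ind e φ ((tC t : centralizer ({t} : Set G)) : G) from rfl,
      ind_apply ht e hφ (by rw [e_tC ht e]; exact supp_zz), e_tC ht e, hv, hza, hzb] at h
    exact_mod_cast h.symm
  · have := one_lt_degree hperf ha
    rw [abs_mul, Nat.abs_cast, abs_eq_one_of_sq ea hea, one_mul]; exact_mod_cast this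
  · have := one_lt_degree hperf hb
    rw [abs_mul, Nat.abs_cast, abs_eq_one_of_sq eb heb, one_mul]; exact_mod_cast this
  · refine (IsUnit.mul_left_dvd ⟨⟨ea, ea, hea, hea⟩, rfl⟩).2 ?_
    exact_mod_cast charDegree_dvd_card a.2
  · refine (IsUnit.mul_left_dvd ⟨⟨eb, eb, heb, heb⟩, rfl⟩).2 ?_
    exact_mod_cast charDegree_dvd_card b.2
  · have h := pair_equation ht e hφ hN
    rw [hsum, princ_apply, princ_apply, hda, hdb, hza, hzb] at h
    have hG : (Nat.card G : ℂ) ≠ 0 := Nat.cast_ne_zero.2 Nat.card_pos.ne'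
    have hA : (charDegree (a : G → ℂ) : ℂ) ≠ 0 := Nat.cast_ne_zero.2 (charDegree_pos a.2).ne'
    have hB : (charDegree (b : G → ℂ) : ℂ) ≠ 0 := Nat.cast_ne_zero.2 (charDegree_pos b.2).ne'
    field_simp at h
    have key : (Nat.card G : ℤ) * ((charDegree (a : G → ℂ) : ℤ) * (charDegree (b : G → ℂ) : ℤ) +
        ea * (za * za) * (charDegree (b : G → ℂ) : ℤ) + eb * (zb * zb) * (charDegree (a : G → ℂ) : ℤ)) =
        48 * N * ((charDegree (a : G → ℂ) : ℤ) * (charDegree (b : G → ℂ) : ℤ)) := by
      have : ((Nat.card G : ℂ)) * ((charDegree (a : G → ℂ) : ℂ) * (charDegree (b : G → ℂ) : ℂ) +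
          ea * (za * za) * (charDegree (b : G → ℂ) : ℂ) + eb * (zb * zb) * (charDegree (a : G → ℂ) : ℂ)) =
          48 * (N : ℂ) * ((charDegree (a : G → ℂ) : ℂ) * (charDegree (b : G → ℂ) : ℂ)) := by
        linear_combination h
      exact_mod_cast this
    linear_combination (ea * eb) * key
where
  abs_eq_one_of_sq (z : ℤ) (h : z * z = 1) : |z| = 1 := by
    rcases mul_self_eq_one_iff.1 h with rfl | rfl <;> rfl

theorem sign_argument {s r κ : ℤ} (hκ : κ * κ = 1) (hs : 1 < |s|) (hr : 1 < |r|) (h1 : 1 + s + r = 0)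
    (h2 : 1 + κ * s - κ * r = 0) : False := by
  rcases mul_self_eq_one_iff.1 hκ with rfl | rfl
  · have h' : s = -1 := by omega
    rw [h'] at hs; norm_num at hs
  · have h' : r = -1 := by omega
    rw [h'] at hr; norm_num at hr

include ht e in
/-- The order of the group. -/
theorem card_eq : Nat.card G = 5616 ∨ Nat.card G = 7920 := by
  classical
  haveI := Fintype.ofFinite G
  haveI := Fintype.ofFinite GL23
  obtain ⟨hd1, ha1, hdz, haz⟩ := values_zz
  obtain ⟨sd, sa, sdd, saa, sad⟩ := sums
  obtain ⟨pd, pa⟩ := pair_sums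
  obtain ⟨a, b, ea, eb, s, r, p, q, ha, hb, hab, hea, heb, hsum, hs, hr, hp, hq, hsr, hpq, hs1, hr1, hsG, hrG, heq⟩ :=
    exists_data ht e carried_d hd1 sd sdd (v := 0) (N := 96) (by rw [hdz]; norm_num) (by rw [pd]; norm_num)
  obtain ⟨c, d, ec, ed, x, y, m, n, hc, hd, hcd, hec, hed, hsum', hx, hy, hm, hn, hxy, hmn, hx1, hy1, hxG, hyG, heq'⟩ :=
    exists_data ht e carried_a ha1 sa saa (v := 8) (N := 192) (by rw [haz]; norm_num) (by rw [pa]; norm_num)
  have hcoef : ∀ χ : IrrCharacter G, classInner (Ind e dFun) (χ : G → ℂ) =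
      (((if χ = princ G then 1 else 0) + ea * (if χ = a then 1 else 0) + eb * (if χ = b then 1 else 0) : ℤ) : ℂ) := by
    intro χ
    have h := hsum (fun ψ => if ψ = χ then 1 else 0)
    simp only [mul_ite, mul_one, mul_zero, Finset.sum_ite_eq', Finset.mem_univ, if_true] at h
    rw [h]
    simp only [eq_comm (a := χ)]
    push_cast
    simp
  have hprod : ec * ((if c = a then ea else 0) + (if c = b then eb else 0)) +
      ed * ((if d = a then ea else 0) + (if d = b then eb else 0)) = 0 := by
    have h := classInner_eq_sum (φ := Ind e aFun) (ind_classFun e dFun)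
    rw [inner_ind ht e carried_a carried_d, sad, hsum' (fun χ => conj (classInner (Ind e dFun) (χ : G → ℂ))),
      hcoef, hcoef, hcoef] at h
    simp only [Ne.symm ha, Ne.symm hb, hc, hd, if_true, if_false, map_intCast] at h
    have h' : (1 : ℤ) = (1 + ea * 0 + eb * 0) + ec * (0 + ea * (if c = a then 1 else 0) + eb * (if c = b then 1 else 0))
        + ed * (0 + ea * (if d = a then 1 else 0) + eb * (if d = b then 1 else 0)) := by
      have h'' : ((1 : ℤ) : ℂ) = (48 : ℂ)⁻¹ * 48 := by norm_num
      rw [← h''] at h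
      exact_mod_cast h
    simp only [mul_ite, mul_one, mul_zero, zero_add, add_zero] at h' ⊢
    split_ifs at h' ⊢ <;> (try linarith)
  have hne : ∀ u v w : ℤ, u * u = 1 → v * v = 1 → u * v ≠ 0 := fun u v _ hu hv h0 => by
    rcases mul_eq_zero.1 h0 with rfl | rfl <;> simp at hu hv
  have hdist : c ≠ a ∧ c ≠ b ∧ d ≠ a ∧ d ≠ b := by
    have hA : (charDegree (a : G → ℂ) : ℤ) = ea * s := by rw [hs, ← mul_assoc, hea, one_mul]
    have hB : (charDegree (b : G → ℂ) : ℤ) = eb * r := by rw [hr, ← mul_assoc, heb, one_mul]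
    by_cases h1 : c = a
    · subst h1
      by_cases h2 : d = b
      · subst h2
        simp only [hcd, Ne.symm hcd, if_true, if_false] at hprod
        exfalso
        refine sign_argument (κ := ec * ea) (by linear_combination (ea * ea) * hec + hea) hs1 hr1 hsr ?_
        have hk : ed * eb = -(ec * ea) := by linarith
        rw [hx, hy, hA, hB] at hxy
        linear_combination hxy - r * hk
      · simp only [hab, h2, Ne.symm hcd, if_true, if_false] at hprod
        exact absurd (by linarith) (hne ec ea 0 hec hea)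
    by_cases h2 : c = b
    · subst h2
      by_cases h3 : d = a
      · subst h3
        simp only [h1, Ne.symm h1, if_true, if_false] at hprod
        exfalso
        refine sign_argument (κ := ed * ea) (by linear_combination (ea * ea) * hed + hea) hs1 hr1 hsr ?_
        have hk : ec * eb = -(ed * ea) := by linarith
        rw [hx, hy, hA, hB] at hxy
        linear_combination hxy - r * hk
      · simp only [h1, h3, Ne.symm hcd, if_true, if_false] at hprod
        exact absurd (by linarith) (hne ec eb 0 hec heb)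
    simp only [h1, h2, if_false, add_zero, mul_zero, zero_add] at hprod
    refine ⟨h1, h2, fun h3 => ?_, fun h3 => ?_⟩
    · subst h3
      simp only [hab, if_true, if_false, add_zero] at hprod
      exact hne ed ea 0 hed hea hprod
    · subst h3
      simp only [Ne.symm hab, if_true, if_false, zero_add] at hprod
      exact hne ed eb 0 hed heb hprod
  obtain ⟨hca, hcb, hda, hdb⟩ := hdist
  have hbound : 1 + p * p + q * q + m * m + n * n ≤ 48 := by
    choose z hz using fun χ : IrrCharacter G =>
      SmallSimple.DegreeSquare.exists_int_apply (isCharacter_of_isIrr χ.2) (t_mul_t ht)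
    have h48 : ∑ χ : IrrCharacter G, z χ * z χ = 48 := by
      have h := sum_norm (G := G) t
      simp only [hz, map_intCast, card_centralizer e] at h
      exact_mod_cast h
    have hle : ∑ χ ∈ ({princ G, a, b, c, d} : Finset (IrrCharacter G)), z χ * z χ ≤ 48 :=
      h48 ▸ Finset.sum_le_sum_of_subset_of_nonneg (Finset.subset_univ _) (fun χ _ _ => mul_self_nonneg _)
    have h1 : z (princ G) = 1 := by
      have h := hz (princ G)
      rw [princ_apply] at h
      exact_mod_cast h.symm
    have conv : ∀ (χ : IrrCharacter G) (k : ℤ), (χ : G → ℂ) t * (χ : G → ℂ) t = (k * k : ℤ) → z χ * z χ = k * k := by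
      intro χ k h
      rw [hz, ← Int.cast_mul] at h
      exact_mod_cast h
    rw [Finset.sum_insert (by simp [Ne.symm ha, Ne.symm hb, Ne.symm hc, Ne.symm hd]),
      Finset.sum_insert (by simp [hab, Ne.symm hca, Ne.symm hda]),
      Finset.sum_insert (by simp [Ne.symm hcb, Ne.symm hdb]),
      Finset.sum_pair hcd, h1, conv a p hp, conv b q hq, conv c m hm, conv d n hn] at hle
    linarith
  have hr' : r = -1 - s := by linarith
  have hy' : y = -1 - x := by linarith
  have hq' : q = -1 - p := by linarith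
  have hn' : n = 7 - m := by linarith
  subst hr' hy' hq' hn'
  have hm' : 1 ≤ m ∧ m ≤ 6 := by constructor <;> nlinarith
  have hmin : 25 ≤ m * m + (7 - m) * (7 - m) := by
    have h7 : 1 ≤ m ∧ m ≤ 6 := hm'
    obtain ⟨h1', h2'⟩ := h7
    interval_cases m <;> norm_num
  have hp' : -3 ≤ p ∧ p ≤ 2 := by
    have hpp : p * p + (-1 - p) * (-1 - p) ≤ 22 := by linarith
    constructor <;> nlinarith
  have hs0 : s ≠ 0 := fun h => by rw [h] at hs1; norm_num at hs1
  have hs0' : s + 1 ≠ 0 := fun h => by rw [show -1 - s = (0 : ℤ) by omega] at hr1; norm_num at hr1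
  have hx0 : x ≠ 0 := fun h => by rw [h] at hx1; norm_num at hx1
  have hx0' : x + 1 ≠ 0 := fun h => by rw [show -1 - x = (0 : ℤ) by omega] at hy1; norm_num at hy1
  have hs1G : s + 1 ∣ (Nat.card G : ℤ) := by
    rw [show s + 1 = -(-1 - s) by ring]; exact (neg_dvd).2 hrG
  have h6 := first_eq (n := (Nat.card G : ℤ)) (by exact_mod_cast sixteen_dvd ht e)
    (by exact_mod_cast not_thirtytwo ht e) (by exact_mod_cast Nat.card_pos) hp' hs0 hs0' hsG hs1G
    (by linear_combination (-1 : ℤ) * heq)
  have hfour : ¬ ((Nat.card G : ℤ) = 2160 ∨ (Nat.card G : ℤ) = 3696 ∨ (Nat.card G : ℤ) = 3024 ∨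
      (Nat.card G : ℤ) = 6480) := fun h =>
    second_eq (x := x) (a := m) h hm' hx0 hx0' (by linear_combination (-1 : ℤ) * heq')
  omega

end Cfsg.Agent.Lib.GLTwoThree
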