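import Cfsg.Agent.Lib.Perm.CharMult
import Cfsg.Agent.Lib.Char.Orthogonality
import Cfsg.Agent.Lib.Char.Coherent
import Cfsg.Prelude.Def_Characters
import Mathlib.LinearAlgebra.Matrix.GeneralLinearGroup.Defs

/-!
# A computational model of the general linear group of degree two over three elements

Two virtual characters `dFun`, `aFun` of this group, vanishing off the elements having the central
involution as a power, with their inner products and involution pair counts.
-/

set_option autoImplicit false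
set_option linter.unusedSectionVars false
set_option synthInstance.maxSize 1024
set_option linter.style.haveILetI false

namespace Cfsg.Agent.Lib.GLTwoThree

open Cfsg Matrix
open Cfsg.Agent.Lib.Char

/-- The group. -/
abbrev GL23 := Matrix.GeneralLinearGroup (Fin 2) (ZMod 3)

/-- Quadruples standing for matrices. -/
abbrev Quad := ZMod 3 × ZMod 3 × ZMod 3 × ZMod 3

def qdet (v : Quad) : ZMod 3 := v.1 * v.2.2.2 - v.2.1 * v.2.2.1

def qtr (v : Quad) : ZMod 3 := v.1 + v.2.2.2

def qmul (v w : Quad) : Quad :=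
  (v.1 * w.1 + v.2.1 * w.2.2.1, v.1 * w.2.1 + v.2.1 * w.2.2.2,
    v.2.2.1 * w.1 + v.2.2.2 * w.2.2.1, v.2.2.1 * w.2.1 + v.2.2.2 * w.2.2.2)

def qone : Quad := (1, 0, 0, 1)

def qneg : Quad := (-1, 0, 0, -1)

def toQuad (g : GL23) : Quad :=
  ((g : Matrix (Fin 2) (Fin 2) (ZMod 3)) 0 0, (g : Matrix (Fin 2) (Fin 2) (ZMod 3)) 0 1,
    (g : Matrix (Fin 2) (Fin 2) (ZMod 3)) 1 0, (g : Matrix (Fin 2) (Fin 2) (ZMod 3)) 1 1)

theorem toQuad_injective : Function.Injective toQuad := by
  intro g h he
  simp only [toQuad, Prod.mk.injEq] at he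
  refine Units.ext ?_
  ext i j
  fin_cases i <;> fin_cases j
  · exact he.1
  · exact he.2.1
  · exact he.2.2.1
  · exact he.2.2.2

theorem toQuad_mul (g h : GL23) : toQuad (g * h) = qmul (toQuad g) (toQuad h) := by
  simp [toQuad, qmul, Units.val_mul, Matrix.mul_apply, Fin.sum_univ_two]

theorem toQuad_one : toQuad 1 = qone := by simp [toQuad, qone]

theorem toQuad_eq_one {g : GL23} : g = 1 ↔ toQuad g = qone := by
  rw [← toQuad_one]; exact toQuad_injective.eq_iff.symm

theorem qdet_toQuad (g : GL23) : qdet (toQuad g) ≠ 0 := by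
  haveI : Fact (Nat.Prime 3) := ⟨Nat.prime_three⟩
  have h : (g : Matrix (Fin 2) (Fin 2) (ZMod 3)).det ≠ 0 :=
    ((Matrix.isUnit_iff_isUnit_det _).1 g.isUnit).ne_zero
  simpa [qdet, toQuad, Matrix.det_fin_two] using h

/-- The invertible quadruples. -/
abbrev Inv4 := {v : Quad // qdet v ≠ 0}

noncomputable def quadEquiv : GL23 ≃ Inv4 := by
  refine Equiv.ofBijective (fun g => ⟨toQuad g, qdet_toQuad g⟩)
    ⟨fun g h e => toQuad_injective (congrArg Subtype.val e), fun v => ?_⟩
  haveI : Fact (Nat.Prime 3) := ⟨Nat.prime_three⟩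
  refine ⟨Matrix.GeneralLinearGroup.mkOfDetNeZero !![v.1.1, v.1.2.1; v.1.2.2.1, v.1.2.2.2] ?_,
    Subtype.ext ?_⟩
  · rw [Matrix.det_fin_two]
    simpa [qdet] using v.2
  · simp [toQuad]

theorem quadEquiv_apply (g : GL23) : (quadEquiv g : Quad) = toQuad g := rfl

theorem forall_gl {P : Quad → Prop} (h : ∀ v : Quad, qdet v ≠ 0 → P v) (g : GL23) : P (toQuad g) :=
  h _ (qdet_toQuad g)

theorem card_filter_gl [Fintype GL23] (P : Quad → Prop) [DecidablePred P] :
    (Finset.univ.filter fun g : GL23 => P (toQuad g)).card =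
      (Finset.univ.filter fun v : Inv4 => P v.1).card :=
  Finset.card_equiv quadEquiv fun g => by simp [quadEquiv_apply]

theorem natCard_gl (P : Quad → Prop) [DecidablePred P] :
    Nat.card {g : GL23 // P (toQuad g)} = (Finset.univ.filter fun v : Inv4 => P v.1).card := by
  classical
  rw [Nat.card_congr ((quadEquiv.subtypeEquiv fun g => Iff.rfl) :
    {g : GL23 // P (toQuad g)} ≃ {v : Inv4 // P v.1}), Nat.card_eq_fintype_card, Fintype.card_subtype]

theorem sum_gl [Fintype GL23] (f : Quad → ℂ) :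
    ∑ g : GL23, f (toQuad g) = ∑ v : Inv4, f v.1 :=
  Fintype.sum_equiv quadEquiv _ _ fun _ => rfl

theorem card_gl : Nat.card GL23 = 48 := by
  rw [Nat.card_congr quadEquiv, Nat.card_eq_fintype_card]
  decide +kernel

/-- The central involution. -/
noncomputable def zz : GL23 := quadEquiv.symm ⟨qneg, by decide⟩

theorem toQuad_zz : toQuad zz = qneg := by
  have h := quadEquiv_apply zz
  rw [zz, Equiv.apply_symm_apply] at h
  exact h.symm

theorem zz_comm (g : GL23) : g * zz = zz * g := by
  apply toQuad_injective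
  rw [toQuad_mul, toQuad_mul, toQuad_zz]
  exact forall_gl (P := fun v => qmul v qneg = qmul qneg v) (by decide +kernel) g

theorem zz_mul_zz : zz * zz = 1 := by
  rw [toQuad_eq_one, toQuad_mul, toQuad_zz]; decide

theorem zz_ne_one : zz ≠ 1 := by
  rw [Ne, toQuad_eq_one, toQuad_zz]; decide

theorem eq_zz_of_central {g : GL23} (h : ∀ x : GL23, x * g = g * x) (h2 : g * g = 1) (h1 : g ≠ 1) :
    g = zz := by
  apply toQuad_injective
  rw [toQuad_zz]
  have key : ∀ v : Quad, qdet v ≠ 0 → (∀ w : Quad, qdet w ≠ 0 → qmul w v = qmul v w) →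
      qmul v v = qone → v ≠ qone → v = qneg := by decide +kernel
  refine key _ (qdet_toQuad g) (fun w hw => ?_) ?_ (fun e => h1 (toQuad_eq_one.2 e))
  · obtain ⟨x, hx⟩ := quadEquiv.surjective ⟨w, hw⟩
    have hx' : toQuad x = w := congrArg Subtype.val hx
    rw [← hx', ← toQuad_mul, ← toQuad_mul, h x]
  · rw [← toQuad_mul, h2, toQuad_one]

/-- In the kernel of the determinant the central involution is the only involution. -/
theorem eq_zz_of_det_one {g : GL23} (hd : qdet (toQuad g) = 1) (h2 : g * g = 1) (h1 : g ≠ 1) :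
    g = zz := by
  apply toQuad_injective
  rw [toQuad_zz]
  have key : ∀ v : Quad, qdet v = 1 → qmul v v = qone → v ≠ qone → v = qneg := by decide +kernel
  exact key _ hd (by rw [← toQuad_mul, h2, toQuad_one]) (fun e => h1 (toQuad_eq_one.2 e))

/-- An element of order four squares to the central involution. -/
theorem sq_eq_zz {g : GL23} (h4 : g * g * (g * g) = 1) (h2 : g * g ≠ 1) : g * g = zz := by
  apply toQuad_injective
  rw [toQuad_zz]
  have key : ∀ v : Quad, qdet v ≠ 0 → qmul (qmul v v) (qmul v v) = qone → qmul v v ≠ qone →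
      qmul v v = qneg := by decide +kernel
  rw [toQuad_mul]
  refine key _ (qdet_toQuad g) ?_ fun e => h2 (toQuad_eq_one.2 (by rw [toQuad_mul, e]))
  rw [← toQuad_mul, ← toQuad_mul, h4, toQuad_one]

/-! ### The two virtual characters -/

def qd (v : Quad) : ℤ :=
  if qdet v = 1 then (if qtr v = 0 then 4 else 0) else (if qtr v = 0 then 0 else 2)

def qa (v : Quad) : ℤ :=
  if v = qneg then 8 else if qdet v = 1 then (if qtr v = 1 then 2 else 0) else
    (if qtr v = 0 then 0 else 2)

noncomputable def dFun (g : GL23) : ℂ := (qd (toQuad g) : ℂ)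

noncomputable def aFun (g : GL23) : ℂ := (qa (toQuad g) : ℂ)

def q4 (v : Quad) : Bool := qmul v v == qneg

def q3 (v : Quad) : Bool := qmul (qmul v v) v == qone && v != qone

theorem class_invariant (g h : GL23) : qdet (toQuad (g * h * g⁻¹)) = qdet (toQuad h) ∧
    qtr (toQuad (g * h * g⁻¹)) = qtr (toQuad h) ∧ (toQuad (g * h * g⁻¹) = qneg ↔ toQuad h = qneg) := by
  have hdet : ∀ x : GL23, qdet (toQuad x) = (x : Matrix (Fin 2) (Fin 2) (ZMod 3)).det := by
    intro x; simp [qdet, toQuad, Matrix.det_fin_two]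
  have htr : ∀ x : GL23, qtr (toQuad x) = Matrix.trace (x : Matrix (Fin 2) (Fin 2) (ZMod 3)) := by
    intro x; simp [qtr, toQuad, Matrix.trace_fin_two]
  refine ⟨?_, ?_, ?_⟩
  · rw [hdet, hdet, Units.val_mul, Units.val_mul, Matrix.det_mul, Matrix.det_mul, mul_comm, ← mul_assoc,
      ← Matrix.det_mul, ← Units.val_mul, inv_mul_cancel, Units.val_one, Matrix.det_one, one_mul]
  · rw [htr, htr, Units.val_mul, Matrix.trace_mul_comm, ← Units.val_mul, inv_mul_cancel_left]
  · rw [← toQuad_zz, toQuad_injective.eq_iff, toQuad_injective.eq_iff]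
    constructor
    · intro e
      have : h = g⁻¹ * zz * g := by rw [← e]; group
      rw [this, mul_assoc, ← zz_comm g, inv_mul_cancel_left]
    · rintro rfl
      rw [zz_comm g, mul_inv_cancel_right]

theorem dFun_conj (g h : GL23) : dFun (g * h * g⁻¹) = dFun h := by
  obtain ⟨h1, h2, -⟩ := class_invariant g h
  simp only [dFun, qd, h1, h2]

theorem aFun_conj (g h : GL23) : aFun (g * h * g⁻¹) = aFun h := by
  obtain ⟨h1, h2, h3⟩ := class_invariant g h
  simp only [aFun, qa, h1, h2, h3]

/-- Fixed point counts are characters. -/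
theorem isCharacter_fixedBy {G : Type} [Group G] [Finite G] {Ω : Type} [Fintype Ω] [MulAction G Ω] :
    IsCharacter G (fun g => (Nat.card (MulAction.fixedBy Ω g) : ℂ)) := by
  haveI := Fintype.ofFinite G
  rw [← Perm.CharMult.permRep_character]
  exact isCharacter_character _

/-- The action by conjugation on an invariant set. -/
theorem isCharacter_conj_count {G : Type} [Group G] [Finite G] (P : G → Prop)
    (hP : ∀ g h : G, P h → P (g * h * g⁻¹)) :
    IsCharacter G (fun g => (Nat.card {y : G // P y ∧ g * y = y * g} : ℂ)) := by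
  classical
  haveI := Fintype.ofFinite G
  let _ : MulAction G {y : G // P y} :=
    { smul := fun g y => ⟨g * y.1 * g⁻¹, hP g y.1 y.2⟩
      one_smul := fun y => Subtype.ext (by show 1 * y.1 * 1⁻¹ = y.1; group)
      mul_smul := fun a b y => Subtype.ext (by
        show a * b * y.1 * (a * b)⁻¹ = a * (b * y.1 * b⁻¹) * a⁻¹; group) }
  have h := isCharacter_fixedBy (G := G) (Ω := {y : G // P y})
  convert h using 1
  funext g
  congr 1
  refine Nat.card_congr
    { toFun := fun y => ⟨⟨y.1, y.2.1⟩, Subtype.ext (by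
        show g * y.1 * g⁻¹ = y.1
        rw [y.2.2, mul_inv_cancel_right])⟩
      invFun := fun y => ⟨y.1.1, y.1.2, by
        have h : g * y.1.1 * g⁻¹ = y.1.1 := congrArg Subtype.val y.2
        calc g * y.1.1 = (g * y.1.1 * g⁻¹) * g := by group
          _ = y.1.1 * g := by rw [h]⟩
      left_inv := fun y => rfl
      right_inv := fun y => rfl }

def cnt3 (v : Quad) : ℕ :=
  (Finset.univ.filter fun w : Inv4 => q3 w.1 = true ∧ qmul v w.1 = qmul w.1 v).card

def cnt4 (v : Quad) : ℕ :=
  (Finset.univ.filter fun w : Inv4 => q4 w.1 = true ∧ qmul v w.1 = qmul w.1 v).card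

def cntV (v : Quad) : ℕ :=
  (Finset.univ.filter fun w : ZMod 3 × ZMod 3 =>
    v.1 * w.1 + v.2.1 * w.2 = w.1 ∧ v.2.2.1 * w.1 + v.2.2.2 * w.2 = w.2).card

theorem isCharacter_cnt3 : IsCharacter GL23 (fun g => (cnt3 (toQuad g) : ℂ)) := by
  have h := isCharacter_conj_count (G := GL23) (fun y => y ^ 3 = 1 ∧ y ≠ 1) fun g h ⟨h3, h1⟩ =>
    ⟨by rw [conj_pow, h3, mul_one, mul_inv_cancel], fun e => h1 (by simpa using e)⟩
  convert h using 1
  funext g
  congr 1
  rw [cnt3, ← natCard_gl (fun w => q3 w = true ∧ qmul (toQuad g) w = qmul w (toQuad g))]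
  refine Nat.card_congr (Equiv.subtypeEquivRight fun y => ?_)
  simp only [q3, Bool.and_eq_true, beq_iff_eq, bne_iff_ne, ← toQuad_mul, toQuad_injective.eq_iff, Ne,
    ← toQuad_eq_one, pow_three, mul_assoc]

theorem isCharacter_cnt4 : IsCharacter GL23 (fun g => (cnt4 (toQuad g) : ℂ)) := by
  have h := isCharacter_conj_count (G := GL23) (fun y => y ^ 2 = zz) fun g h h2 => by
    rw [conj_pow, h2, zz_comm g, mul_inv_cancel_right]
  convert h using 1
  funext g
  congr 1
  rw [cnt4, ← natCard_gl (fun w => q4 w = true ∧ qmul (toQuad g) w = qmul w (toQuad g))]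
  refine Nat.card_congr (Equiv.subtypeEquivRight fun y => ?_)
  simp only [q4, beq_iff_eq, ← toQuad_mul, ← toQuad_zz, toQuad_injective.eq_iff, sq]

theorem isCharacter_cntV : IsCharacter GL23 (fun g => (cntV (toQuad g) : ℂ)) := by
  classical
  let _ : MulAction GL23 (Fin 2 → ZMod 3) :=
    { smul := fun g w => (g : Matrix (Fin 2) (Fin 2) (ZMod 3)).mulVec w
      one_smul := fun w => Matrix.one_mulVec w
      mul_smul := fun a b w => (Matrix.mulVec_mulVec w _ _).symm }
  have h := isCharacter_fixedBy (G := GL23) (Ω := Fin 2 → ZMod 3)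
  convert h using 1
  funext g
  congr 1
  rw [cntV, ← Fintype.card_subtype, ← Nat.card_eq_fintype_card]
  refine Nat.card_congr (Equiv.subtypeEquiv (finTwoArrowEquiv _).symm fun w => ?_)
  show _ ↔ (g : Matrix (Fin 2) (Fin 2) (ZMod 3)).mulVec _ = _
  simp [toQuad, funext_iff, Fin.forall_fin_two, Matrix.mulVec, dotProduct, Fin.sum_univ_two]

def cntD (v : Quad) : ℕ :=
  if qdet v = 1 then 2 else 0

theorem isCharacter_cntD : IsCharacter GL23 (fun g => (cntD (toQuad g) : ℂ)) := by
  classical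
  let _ : MulAction GL23 (ZMod 3)ˣ := MulAction.compHom _ (Matrix.GeneralLinearGroup.det)
  have h := isCharacter_fixedBy (G := GL23) (Ω := (ZMod 3)ˣ)
  convert h using 1
  funext g
  congr 1
  have hd : qdet (toQuad g) = ((Matrix.GeneralLinearGroup.det g : (ZMod 3)ˣ) : ZMod 3) := by
    simp [qdet, toQuad, Matrix.det_fin_two]
  rw [cntD, hd]
  refine Eq.trans ?_ (Nat.card_congr (Equiv.subtypeEquivRight (p := fun w : (ZMod 3)ˣ =>
    Matrix.GeneralLinearGroup.det g * w = w) (q := fun w => w ∈ MulAction.fixedBy (ZMod 3)ˣ g)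
    fun w => Iff.rfl))
  generalize Matrix.GeneralLinearGroup.det g = u
  rw [Nat.card_eq_fintype_card, Fintype.card_subtype]
  revert u
  decide +kernel

theorem gen_add {G : Type} [Group G] {a b : G → ℂ} (ha : IsGeneralizedCharacter G a)
    (hb : IsGeneralizedCharacter G b) : IsGeneralizedCharacter G (a + b) := by
  obtain ⟨x, y, hx, hy, rfl⟩ := ha
  obtain ⟨x', y', hx', hy', rfl⟩ := hb
  exact ⟨x + x', y + y', isCharacter_add hx hx', isCharacter_add hy hy', by abel⟩

theorem dFun_gen : IsGeneralizedCharacter GL23 dFun := by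
  refine ⟨_, _, isCharacter_add isCharacter_cnt4 isCharacter_cntD, isCharacter_cnt3, ?_⟩
  funext g
  have h := forall_gl (P := fun v => qd v = (cnt4 v : ℤ) + cntD v - cnt3 v) (by decide +kernel) g
  simp only [dFun, Pi.sub_apply, Pi.add_apply]
  rw [h]
  push_cast
  ring

theorem aFun_gen : IsGeneralizedCharacter GL23 aFun := by
  refine ⟨_, _, isCharacter_add (isCharacter_add (isCharacter_add isCharacter_one isCharacter_one)
    isCharacter_one) isCharacter_cnt3, isCharacter_add isCharacter_cntD isCharacter_cntV, ?_⟩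
  funext g
  have h := forall_gl (P := fun v => qa v = (3 : ℤ) + cnt3 v - (cntD v + cntV v)) (by decide +kernel) g
  simp only [aFun, Pi.sub_apply, Pi.add_apply]
  rw [h]
  push_cast
  ring

/-! ### Sums -/

theorem sums [Fintype GL23] :
    (∑ g : GL23, dFun g = 48) ∧ (∑ g : GL23, aFun g = 48) ∧ (∑ g : GL23, dFun g * dFun g = 144) ∧
      (∑ g : GL23, aFun g * aFun g = 144) ∧ (∑ g : GL23, aFun g * dFun g = 48) := by
  have key : ∀ f : Quad → ℤ, ∀ n : ℤ, (∑ v : Inv4, f v.1) = n →
      ∑ g : GL23, ((f (toQuad g) : ℤ) : ℂ) = (n : ℂ) := by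
    intro f n h
    rw [sum_gl (fun v => ((f v : ℤ) : ℂ)), ← Int.cast_sum, h]
  refine ⟨?_, ?_, ?_, ?_, ?_⟩
  · simpa [dFun] using key qd 48 (by decide +kernel)
  · simpa [aFun] using key qa 48 (by decide +kernel)
  · simpa [dFun] using key (fun v => qd v * qd v) 144 (by decide +kernel)
  · simpa [aFun] using key (fun v => qa v * qa v) 144 (by decide +kernel)
  · simpa [dFun, aFun] using key (fun v => qa v * qd v) 48 (by decide +kernel)

theorem values_zz : dFun 1 = 0 ∧ aFun 1 = 0 ∧ dFun zz = 0 ∧ aFun zz = 8 := by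
  have h1 : qd qone = 0 := by decide
  have h2 : qa qone = 0 := by decide
  have h3 : qd qneg = 0 := by decide
  have h4 : qa qneg = 8 := by decide
  simp [dFun, aFun, toQuad_one, toQuad_zz, h1, h2, h3, h4]

/-- The elements carrying the two functions. -/
def Supp (g : GL23) : Prop := qd (toQuad g) ≠ 0 ∨ qa (toQuad g) ≠ 0

theorem supp_zz : Supp zz := Or.inr (by rw [toQuad_zz]; decide)

theorem supp_of_dFun {g : GL23} (h : dFun g ≠ 0) : Supp g :=
  Or.inl fun e => h (by rw [dFun, e, Int.cast_zero])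

theorem supp_of_aFun {g : GL23} (h : aFun g ≠ 0) : Supp g :=
  Or.inr fun e => h (by rw [aFun, e, Int.cast_zero])

def qpow (v : Quad) : ℕ → Quad
  | 0 => qone
  | k + 1 => qmul (qpow v k) v

theorem toQuad_pow (g : GL23) (k : ℕ) : toQuad (g ^ k) = qpow (toQuad g) k := by
  induction k with
  | zero => rw [pow_zero, toQuad_one]; rfl
  | succ k ih => rw [pow_succ, toQuad_mul, ih]; rfl

/-- A supported element has a power equal to the central involution, and only this involution. -/
theorem supp_pow {g : GL23} (h : Supp g) :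
    (∃ k < 5, g ^ k = zz) ∧ ∀ k < 5, g ^ k * g ^ k = 1 → g ^ k ≠ 1 → g ^ k = zz := by
  have key : ∀ v : Quad, qdet v ≠ 0 → (qd v ≠ 0 ∨ qa v ≠ 0) →
      (∃ k < 5, qpow v k = qneg) ∧ ∀ k < 5, qmul (qpow v k) (qpow v k) = qone → qpow v k ≠ qone →
        qpow v k = qneg := by decide +kernel
  obtain ⟨⟨k, hk, hk'⟩, h2⟩ := key _ (qdet_toQuad g) h
  refine ⟨⟨k, hk, toQuad_injective (by rw [toQuad_pow, hk', toQuad_zz])⟩, fun k hk he hne => ?_⟩
  apply toQuad_injective
  rw [toQuad_pow, toQuad_zz]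
  refine h2 k hk ?_ fun e => hne (toQuad_eq_one.2 (by rw [toQuad_pow, e]))
  rw [← toQuad_pow, ← toQuad_mul, he, toQuad_one]

/-- The number of ways of writing an element as a product of two involutions. -/
def qn (v : Quad) : ℕ :=
  (Finset.univ.filter fun w : Inv4 =>
    qmul w.1 w.1 = qone ∧ w.1 ≠ qone ∧ qmul (qmul w.1 v) (qmul w.1 v) = qone ∧ qmul w.1 v ≠ qone).card

theorem qn_eq (c : GL23) :
    Nat.card {i : GL23 // i * i = 1 ∧ i ≠ 1 ∧ (i * c) * (i * c) = 1 ∧ i * c ≠ 1} = qn (toQuad c) := by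
  rw [qn, ← natCard_gl (fun w => qmul w w = qone ∧ w ≠ qone ∧
    qmul (qmul w (toQuad c)) (qmul w (toQuad c)) = qone ∧ qmul w (toQuad c) ≠ qone)]
  refine Nat.card_congr (Equiv.subtypeEquivRight fun y => ?_)
  simp only [← toQuad_mul, Ne, ← toQuad_eq_one]

theorem pair_sums [Fintype GL23] :
    (∑ c : GL23, dFun c * (qn (toQuad c) : ℂ) = 96) ∧ (∑ c : GL23, aFun c * (qn (toQuad c) : ℂ) = 192) := by
  have key : ∀ f : Quad → ℤ, ∀ n : ℤ, (∑ v : Inv4, f v.1) = n →
      ∑ g : GL23, ((f (toQuad g) : ℤ) : ℂ) = (n : ℂ) := by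
    intro f n h
    rw [sum_gl (fun v => ((f v : ℤ) : ℂ)), ← Int.cast_sum, h]
  constructor
  · simpa [dFun] using key (fun v => qd v * (qn v : ℤ)) 96 (by decide +kernel)
  · simpa [aFun] using key (fun v => qa v * (qn v : ℤ)) 192 (by decide +kernel)

theorem conj_apply_real (g : GL23) : (starRingEnd ℂ) (dFun g) = dFun g ∧ (starRingEnd ℂ) (aFun g) = aFun g := by
  simp [dFun, aFun]

/-- The determinant-one part. -/
noncomputable def slSub : Subgroup GL23 := Matrix.GeneralLinearGroup.det.ker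

theorem card_slSub : Nat.card slSub = 24 := by
  rw [← show Nat.card {g : GL23 // qdet (toQuad g) = 1} = Nat.card slSub from
    Nat.card_congr (Equiv.subtypeEquivRight fun g => ?_), natCard_gl (fun v => qdet v = 1)]
  · decide +kernel
  · rw [slSub, MonoidHom.mem_ker, ← Units.val_inj]
    simp [qdet, toQuad, Matrix.det_fin_two]

theorem qdet_of_mem {g : GL23} (h : g ∈ slSub) : qdet (toQuad g) = 1 := by
  rw [slSub, MonoidHom.mem_ker] at h
  have h' := congrArg (fun u : (ZMod 3)ˣ => (u : ZMod 3)) h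
  simpa [qdet, toQuad, Matrix.det_fin_two] using h'

end Cfsg.Agent.Lib.GLTwoThree
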