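import Cfsg.Agent.Lib.GLTwoThree.Plane
import Cfsg.Agent.Lib.Classical.Order
import Cfsg.Agent.Lib.Classical.Simple

/-!
# The projective special linear group of degree three over three elements as the group of order 5616
-/

set_option autoImplicit false
set_option linter.unusedSectionVars false
set_option linter.style.haveILetI false
set_option synthInstance.maxSize 1024

namespace Cfsg.Agent.Lib.GLTwoThree

open Cfsg Subgroup Matrix

/-- The group. -/
abbrev L33 := Matrix.ProjectiveSpecialLinearGroup (Fin 3) (ZMod 3)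

/-- The special linear group above it. -/
abbrev S33 := Matrix.SpecialLinearGroup (Fin 3) (ZMod 3)

theorem l33_simple : IsSimpleGroup L33 := by
  haveI : Fact (Nat.Prime 3) := ⟨Nat.prime_three⟩
  exact Lib.Classical.isSimpleGroup_PSL (by simp)

theorem two_mul_eq {n : ℕ} (h : 2 * n = 11232) : n = 5616 := by omega

theorem l33_card : Nat.card L33 = 5616 ∧ Nat.card S33 = 5616 := by
  haveI : Fact (Nat.Prime 3) := ⟨Nat.prime_three⟩
  have hK : Fintype.card (ZMod 3) = 3 := ZMod.card 3
  have h1 := Lib.Classical.card_SL_mul (F := ZMod 3) hK 3 (by norm_num)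
  have hprod : ∏ i : Fin 3, (3 ^ 3 - 3 ^ (i : ℕ)) = 11232 := by decide
  rw [hprod] at h1
  have h2 : Nat.card S33 = 5616 := two_mul_eq h1
  have h3 := Lib.Classical.card_SL_eq_gcd_mul_card_PSL (F := ZMod 3) (ι := Fin 3)
  rw [Fintype.card_fin, hK, show Nat.gcd 3 (3 - 1) = 1 from rfl, one_mul, h2] at h3
  exact ⟨h3.symm, h2⟩

theorem l33_equiv : Nonempty (S33 ≃* L33) := by
  have hb : Function.Bijective (QuotientGroup.mk' (Subgroup.center S33)) :=
    (Nat.bijective_iff_surjective_and_card _).mpr
      ⟨QuotientGroup.mk'_surjective _, l33_card.2.trans l33_card.1.symm⟩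
  exact ⟨MulEquiv.ofBijective _ hb⟩

/-- The matrix of an element of the centraliser. -/
def blockMat (v : Quad) : Matrix (Fin 3) (Fin 3) (ZMod 3) :=
  !![qdet v, 0, 0; 0, v.1, v.2.1; 0, v.2.2.1, v.2.2.2]

theorem det_blockMat (v : Quad) (h : qdet v ≠ 0) : (blockMat v).det = 1 := by
  have key : ∀ a : ZMod 3, a ≠ 0 → a * a = 1 := by decide
  rw [Matrix.det_fin_three]
  simp [blockMat]
  refine Eq.trans ?_ (key _ h)
  simp [qdet]
  ring

theorem qdet_mul (g h : GL23) : qdet (toQuad (g * h)) = qdet (toQuad g) * qdet (toQuad h) := by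
  have hdet : ∀ x : GL23, qdet (toQuad x) = (x : Matrix (Fin 2) (Fin 2) (ZMod 3)).det := by
    intro x; simp [qdet, toQuad, Matrix.det_fin_two]
  rw [hdet, hdet, hdet, Units.val_mul, Matrix.det_mul]

/-- The embedding of the general linear group of degree two. -/
def blockHom : GL23 →* S33 where
  toFun g := ⟨blockMat (toQuad g), det_blockMat _ (qdet_toQuad g)⟩
  map_one' := Subtype.ext (by
    show blockMat (toQuad 1) = 1
    rw [toQuad_one]
    decide)
  map_mul' g h := Subtype.ext (by
    show blockMat (toQuad (g * h)) = blockMat (toQuad g) * blockMat (toQuad h)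
    rw [blockMat, qdet_mul, toQuad_mul, qmul, blockMat, blockMat]
    ext i j
    fin_cases i <;> fin_cases j <;> simp [Matrix.mul_apply, Fin.sum_univ_three])

theorem blockHom_injective : Function.Injective blockHom := by
  intro g h e
  apply toQuad_injective
  have e' : blockMat (toQuad g) = blockMat (toQuad h) := congrArg Subtype.val e
  have a := fun i j => congrFun (congrFun e' i) j
  have a1 := a 1 1
  have a2 := a 1 2
  have a3 := a 2 1
  have a4 := a 2 2
  simp [blockMat] at a1 a2 a3 a4
  exact Prod.ext a1 (Prod.ext a2 (Prod.ext a3 a4))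

/-- The involution. -/
def invElt : S33 := ⟨!![1, 0, 0; 0, 2, 0; 0, 0, 2], by rw [Matrix.det_fin_three]; decide⟩

theorem orderOf_invElt : orderOf invElt = 2 := by
  haveI : Fact (Nat.Prime 2) := ⟨Nat.prime_two⟩
  refine orderOf_eq_prime (Subtype.ext ?_) fun h => ?_
  · rw [Matrix.SpecialLinearGroup.coe_pow, Matrix.SpecialLinearGroup.coe_one]
    show (!![1, 0, 0; 0, 2, 0; 0, 0, 2] : Matrix (Fin 3) (Fin 3) (ZMod 3)) ^ 2 = 1
    rw [sq]
    decide
  · have := congrFun (congrFun (congrArg Subtype.val h) 1) 1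
    revert this
    simp [invElt]
    decide

theorem range_blockHom : blockHom.range = centralizer ({invElt} : Set S33) := by
  apply le_antisymm
  · rintro _ ⟨g, rfl⟩
    rw [mem_centralizer_singleton_iff]
    refine Subtype.ext ?_
    show blockMat (toQuad g) * _ = _ * blockMat (toQuad g)
    ext i j
    fin_cases i <;> fin_cases j <;> simp [blockMat, invElt, Matrix.mul_apply, Fin.sum_univ_three] <;> ring
  · intro M hM
    rw [mem_centralizer_singleton_iff] at hM
    have h' : (M : Matrix (Fin 3) (Fin 3) (ZMod 3)) * invElt.1 = invElt.1 * (M : Matrix (Fin 3) (Fin 3) (ZMod 3)) :=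
      congrArg Subtype.val hM
    have a := fun i j => congrFun (congrFun h' i) j
    have key : ∀ x : ZMod 3, x * 2 = x → x = 0 := by decide
    have key' : ∀ x : ZMod 3, x = 2 * x → x = 0 := by decide
    have a01 : (M : Matrix (Fin 3) (Fin 3) (ZMod 3)) 0 1 = 0 := key _ (by
      simpa [invElt, Matrix.mul_apply, Fin.sum_univ_three] using a 0 1)
    have a02 : (M : Matrix (Fin 3) (Fin 3) (ZMod 3)) 0 2 = 0 := key _ (by
      simpa [invElt, Matrix.mul_apply, Fin.sum_univ_three] using a 0 2)
    have a10 : (M : Matrix (Fin 3) (Fin 3) (ZMod 3)) 1 0 = 0 := key' _ (by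
      simpa [invElt, Matrix.mul_apply, Fin.sum_univ_three] using a 1 0)
    have a20 : (M : Matrix (Fin 3) (Fin 3) (ZMod 3)) 2 0 = 0 := key' _ (by
      simpa [invElt, Matrix.mul_apply, Fin.sum_univ_three] using a 2 0)
    have hd : (M : Matrix (Fin 3) (Fin 3) (ZMod 3)).det = 1 := M.2
    set v : Quad := ((M : Matrix (Fin 3) (Fin 3) (ZMod 3)) 1 1, (M : Matrix (Fin 3) (Fin 3) (ZMod 3)) 1 2,
      (M : Matrix (Fin 3) (Fin 3) (ZMod 3)) 2 1, (M : Matrix (Fin 3) (Fin 3) (ZMod 3)) 2 2) with hv
    have hd' : (M : Matrix (Fin 3) (Fin 3) (ZMod 3)) 0 0 * qdet v = 1 := by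
      rw [Matrix.det_fin_three, a01, a02, a10, a20] at hd
      refine Eq.trans ?_ hd
      simp [qdet, hv]
      ring
    have hne : qdet v ≠ 0 := fun h => by rw [h, mul_zero] at hd'; exact zero_ne_one hd'
    have key2 : ∀ a b : ZMod 3, a * b = 1 → b = a := by decide
    obtain ⟨g, hg⟩ := quadEquiv.surjective ⟨v, hne⟩
    refine ⟨g, Subtype.ext ?_⟩
    show blockMat (toQuad g) = _
    rw [show toQuad g = v from congrArg Subtype.val hg, blockMat, key2 _ _ hd']
    ext i j
    fin_cases i <;> fin_cases j <;> simp [hv, a01, a02, a10, a20]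

/-- The group has an involution whose centraliser is the general linear group of degree two. -/
theorem l33_involution : ∃ t : L33, orderOf t = 2 ∧ Nonempty (centralizer ({t} : Set L33) ≃* GL23) := by
  obtain ⟨φ⟩ := l33_equiv
  refine ⟨φ invElt, by rw [MulEquiv.orderOf_eq, orderOf_invElt], ⟨?_⟩⟩
  let e1 : GL23 ≃* centralizer ({invElt} : Set S33) :=
    (MonoidHom.ofInjective blockHom_injective).trans (MulEquiv.subgroupCongr range_blockHom)
  let e2 : centralizer ({invElt} : Set S33) ≃* centralizer ({φ invElt} : Set L33) :=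
    { toFun := fun c => ⟨φ c.1, mem_centralizer_singleton_iff.2 (by
        rw [← map_mul, ← map_mul, mem_centralizer_singleton_iff.1 c.2])⟩
      invFun := fun c => ⟨φ.symm c.1, mem_centralizer_singleton_iff.2 (by
        apply φ.injective
        rw [map_mul, map_mul, MulEquiv.apply_symm_apply]
        exact mem_centralizer_singleton_iff.1 c.2)⟩
      left_inv := fun c => Subtype.ext (φ.symm_apply_apply _)
      right_inv := fun c => Subtype.ext (φ.apply_symm_apply _)
      map_mul' := fun a b => Subtype.ext (by simp) }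
  exact (e1.trans e2).symm

/-- Recognition of the group. -/
theorem iso_l33 {G : Type*} [Group G] [IsSimpleGroup G] (hG : Nat.card G = 5616) {t : G} (ht : orderOf t = 2)
    (e : centralizer ({t} : Set G) ≃* GL23) : Nonempty (G ≃* L33) := by
  haveI := l33_simple
  obtain ⟨a, ha, ⟨ea⟩⟩ := l33_involution
  exact iso5616 hG l33_card.1 ht e ha ea

end Cfsg.Agent.Lib.GLTwoThree
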