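import Cfsg.Agent.Lib.GLTwoThree.Induced
import Cfsg.Agent.Lib.Char.Order7920Eleven

/-!
# Simple groups with the centraliser of an involution the general linear group over three elements:
counting pairs of involutions
-/

set_option autoImplicit false
set_option linter.unusedSectionVars false
set_option linter.style.haveILetI false

namespace Cfsg.Agent.Lib.GLTwoThree

open Cfsg Subgroup Cfsg.Agent.Lib.Char Cfsg.Agent.Lib.CharTools
open scoped ComplexConjugate

universe u

variable {G : Type u} [Group G] [Finite G] {t : G}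
  (ht : orderOf t = 2) (e : centralizer ({t} : Set G) ≃* GL23)

include ht e in
theorem sixteen_dvd : 48 ∣ Nat.card G :=
  card_centralizer e ▸ card_subgroup_dvd_card _

variable [IsSimpleGroup G]

include ht e in
theorem perfect : commutator G = ⊤ := by
  refine SmallSimple.commutator_eq_top fun h => ?_
  obtain ⟨a, b, hab⟩ := exists_noncomm ht e
  exact hab (h.is_comm.comm a b)

include ht e in
theorem isConj_involution {x : G} (hx : x * x = 1) (hx1 : x ≠ 1) : IsConj x t := by
  obtain ⟨S, hSC, hS, htS, Q, hQS, hQ, hQu, -⟩ := exists_order_four_sylow ht e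
  have h32 := not_thirtytwo ht e
  have h16 : 16 ∣ Nat.card G := dvd_trans (by norm_num) (sixteen_dvd ht e)
  have hidx : ∃ m, Q.index = 2 * m ∧ Odd m := by
    obtain ⟨m, hm⟩ := h16
    refine ⟨m, ?_, ?_⟩
    · have h := Q.card_mul_index
      rw [hQ, hm] at h
      omega
    · rw [Nat.odd_iff]
      by_contra hodd
      obtain ⟨k, rfl⟩ : 2 ∣ m := by omega
      exact h32 ⟨k, by rw [hm]; ring⟩
  obtain ⟨g, hg⟩ := Fusion.exists_conj_mem_of_twice_odd_index inferInstance (exists_noncomm ht e) Q hidx
    (by rw [pow_two, hx] : x ^ 2 = 1)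
  refine isConj_iff.2 ⟨g, hQu _ hg ?_ ?_⟩
  · calc g * x * g⁻¹ * (g * x * g⁻¹) = g * (x * x) * g⁻¹ := by group
      _ = 1 := by rw [hx]; group
  · intro h
    exact hx1 (conj_eq_one_iff.1 h)

include ht e in
theorem isConj_iff_involution {x : G} : IsConj x t ↔ x * x = 1 ∧ x ≠ 1 := by
  refine ⟨fun h => ?_, fun h => isConj_involution ht e h.1 h.2⟩
  obtain ⟨g, hg⟩ := isConj_iff.1 h.symm
  subst hg
  refine ⟨?_, fun h => t_ne_one ht (conj_eq_one_iff.1 h)⟩
  calc g * t * g⁻¹ * (g * t * g⁻¹) = g * (t * t) * g⁻¹ := by group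
    _ = 1 := by rw [t_mul_t ht]; group

include ht e in
/-- A factorisation of a carried element into two involutions takes place in the centraliser. -/
theorem left_mem {c : centralizer ({t} : Set G)} (hc : Supp (e c)) {i : G} (hi : i * i = 1)
    (hj : i * c * (i * c) = 1) : i ∈ centralizer ({t} : Set G) := by
  obtain ⟨k, -, hk⟩ := pow_of_supp ht e hc
  have hinv : i * (c : G) * i⁻¹ = (c : G)⁻¹ := by
    rw [inv_eq_of_mul_eq_one_right hi]
    calc i * (c : G) * i = i * (c : G) * (i * c) * (c : G)⁻¹ := by group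
      _ = (c : G)⁻¹ := by rw [hj, one_mul]
  have h : i * t * i⁻¹ = t := by
    rw [← hk, ← conj_pow, hinv, inv_pow, hk, inv_eq_of_mul_eq_one_right (t_mul_t ht)]
  refine mem_centralizer_singleton_iff.2 ?_
  calc i * t = i * t * i⁻¹ * i := by group
    _ = t * i := by rw [h]

include ht e in
theorem card_factor {c : centralizer ({t} : Set G)} (hc : Supp (e c)) :
    Nat.card {i : G // IsConj i t ∧ IsConj (i⁻¹ * c) t} = qn (toQuad (e c)) := by
  rw [← qn_eq]
  have key : ∀ i : G, (IsConj i t ∧ IsConj (i⁻¹ * c) t) ↔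
      (i * i = 1 ∧ i ≠ 1 ∧ i * c * (i * c) = 1 ∧ i * (c : G) ≠ 1) := by
    intro i
    rw [isConj_iff_involution ht e, isConj_iff_involution ht e]
    constructor
    · rintro ⟨⟨h1, h2⟩, h3, h4⟩
      rw [inv_eq_of_mul_eq_one_right h1] at h3 h4
      exact ⟨h1, h2, h3, h4⟩
    · rintro ⟨h1, h2, h3, h4⟩
      rw [inv_eq_of_mul_eq_one_right h1]
      exact ⟨⟨h1, h2⟩, h3, h4⟩
  rw [Nat.card_congr (Equiv.subtypeEquivRight key)]
  refine Nat.card_congr
    { toFun := fun i => ⟨e ⟨i.1, left_mem ht e hc i.2.1 i.2.2.2.1⟩, ?_, ?_, ?_, ?_⟩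
      invFun := fun y => ⟨(e.symm y.1 : G), ?_, ?_, ?_, ?_⟩
      left_inv := fun i => by simp
      right_inv := fun y => by simp }
  · rw [← map_mul, ← map_one e]; exact congrArg e (Subtype.ext i.2.1)
  · intro h
    rw [← map_one e] at h
    exact i.2.2.1 (congrArg Subtype.val (e.injective h))
  · rw [← map_mul, ← map_mul, ← map_one e]; exact congrArg e (Subtype.ext i.2.2.2.1)
  · intro h
    rw [← map_mul, ← map_one e] at h
    exact i.2.2.2.2 (congrArg Subtype.val (e.injective h))
  · rw [← Subgroup.coe_mul, ← map_mul, y.2.1, map_one, Subgroup.coe_one]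
  · intro h
    exact y.2.2.1 (((e.apply_symm_apply y.1).symm.trans (congrArg e (Subtype.ext h : e.symm y.1 = 1))).trans
      (map_one e))
  · rw [← Subgroup.coe_mul, ← Subgroup.coe_mul]
    have h := congrArg e.symm y.2.2.2.1
    simp only [map_mul, map_one, MulEquiv.symm_apply_apply] at h
    exact congrArg Subtype.val h
  · intro h
    refine y.2.2.2.2 ?_
    have h' := congrArg e (Subtype.ext h : e.symm y.1 * c = 1)
    rwa [map_mul, map_one, e.apply_symm_apply] at h'

variable [Fintype G]

include ht in
/-- The fundamental equation. -/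
theorem pair_equation {φ : GL23 → ℂ} (hφ : Carried φ) [Fintype GL23] {N : ℂ}
    (hN : ∑ g : GL23, φ g * (qn (toQuad g) : ℂ) = N) :
    ((Nat.card G : ℂ) / 48) ^ 2 *
      ∑ χ : IrrCharacter G, classInner (Ind e φ) (χ : G → ℂ) *
        ((χ : G → ℂ) t * (χ : G → ℂ) t / (χ : G → ℂ) 1) = (Nat.card G : ℂ) / 48 * N := by
  classical
  haveI := Fintype.ofFinite (centralizer ({t} : Set G))
  have hidx : (((centralizer ({t} : Set G)).index : ℕ) : ℂ) = (Nat.card G : ℂ) / 48 := by
    rw [← (centralizer ({t} : Set G)).card_mul_index, card_centralizer e]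
    push_cast
    ring
  calc ((Nat.card G : ℂ) / 48) ^ 2 * ∑ χ : IrrCharacter G, classInner (Ind e φ) (χ : G → ℂ) *
        ((χ : G → ℂ) t * (χ : G → ℂ) t / (χ : G → ℂ) 1)
      = ∑ χ : IrrCharacter G, classInner (Ind e φ) (χ : G → ℂ) *
          ((((centralizer ({t} : Set G)).index : ℕ) : ℂ) * (((centralizer ({t} : Set G)).index : ℕ) : ℂ) * ((χ : G → ℂ) t * (χ : G → ℂ) t) / (χ : G → ℂ) 1) := by
        rw [Finset.mul_sum]
        refine Finset.sum_congr rfl fun χ _ => ?_
        rw [hidx]; ring
    _ = ∑ χ : IrrCharacter G, classInner (Ind e φ) (χ : G → ℂ) *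
          ∑ x : G, ∑ y : G, classInd t x * classInd t y * (χ : G → ℂ) (x * y) := by
        refine Finset.sum_congr rfl fun χ _ => ?_
        rw [sum_classes_mul χ.2]
    _ = ∑ x : G, ∑ y : G, classInd t x * classInd t y *
          ∑ χ : IrrCharacter G, classInner (Ind e φ) (χ : G → ℂ) * (χ : G → ℂ) (x * y) := by
        simp only [Finset.mul_sum]
        rw [Finset.sum_comm]
        refine Finset.sum_congr rfl fun x _ => ?_
        rw [Finset.sum_comm]
        exact Finset.sum_congr rfl fun y _ => Finset.sum_congr rfl fun χ _ => by ring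
    _ = ∑ x : G, ∑ y : G, classInd t x * classInd t y * Ind e φ (x * y) := by
        refine Finset.sum_congr rfl fun x _ => Finset.sum_congr rfl fun y _ => ?_
        have h := congrFun (eq_sum_classInner_smul (ind_classFun e φ)) (x * y)
        simp only [Finset.sum_apply, Pi.smul_apply, smul_eq_mul] at h
        rw [← h]
    _ = (Nat.card (centralizer ({t} : Set G)) : ℂ)⁻¹ * ∑ g : G, ∑ x : G, ∑ y : G,
          classInd t x * classInd t y * extendByZero (centralizer ({t} : Set G)) (fun c => φ (e c)) (g⁻¹ * (x * y) * g) := by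
        simp only [Ind, indFun, Finset.mul_sum]
        conv_lhs =>
          enter [2, x]
          rw [Finset.sum_comm]
        rw [Finset.sum_comm]
        exact Finset.sum_congr rfl fun g _ => Finset.sum_congr rfl fun x _ =>
          Finset.sum_congr rfl fun y _ => by ring
    _ = (Nat.card (centralizer ({t} : Set G)) : ℂ)⁻¹ * ((Nat.card G : ℂ) * ∑ x : G, ∑ c : centralizer ({t} : Set G),
          classInd t x * classInd t (x⁻¹ * c) * φ (e c)) := by
        congr 1
        rw [Finset.sum_congr rfl fun g _ => ?_, Finset.sum_const, nsmul_eq_mul, Finset.card_univ,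
          ← Nat.card_eq_fintype_card]
        refine (Fintype.sum_equiv (MulAut.conj g).toEquiv _ _ fun x => ?_).symm
        simp only [MulEquiv.toEquiv_eq_coe, MulEquiv.coe_toEquiv, MulAut.conj_apply, classInd_conj]
        rw [← Fintype.sum_equiv (MulAut.conj g).toEquiv
          (fun y => classInd t x * classInd t y * extendByZero (centralizer ({t} : Set G)) (fun c => φ (e c)) (x * y))
          (fun y => classInd t x * classInd t y *
            extendByZero (centralizer ({t} : Set G)) (fun c => φ (e c)) (g⁻¹ * (g * x * g⁻¹ * y) * g)) fun y => ?_]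
        · rw [← Fintype.sum_equiv (Equiv.mulLeft x⁻¹)
            (fun y => classInd t x * classInd t (x⁻¹ * y) * extendByZero (centralizer ({t} : Set G)) (fun c => φ (e c)) y)
            (fun y => classInd t x * classInd t y * extendByZero (centralizer ({t} : Set G)) (fun c => φ (e c)) (x * y))
            fun y => by simp]
          refine (Finset.sum_congr rfl fun c _ => by ring).trans
            ((sum_extendByZero (centralizer ({t} : Set G)) (fun c => φ (e c))
              (fun y => classInd t x * classInd t (x⁻¹ * y))).symm.trans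
              (Finset.sum_congr rfl fun y _ => by ring))
        · simp only [MulEquiv.toEquiv_eq_coe, MulEquiv.coe_toEquiv, MulAut.conj_apply, classInd_conj]
          rw [show g⁻¹ * (g * x * g⁻¹ * (g * y * g⁻¹)) * g = x * y by group]
    _ = (Nat.card (centralizer ({t} : Set G)) : ℂ)⁻¹ * ((Nat.card G : ℂ) * ∑ c : centralizer ({t} : Set G), φ (e c) * (qn (toQuad (e c)) : ℂ)) := by
        congr 2
        rw [Finset.sum_comm]
        refine Finset.sum_congr rfl fun c _ => ?_
        rw [← Finset.sum_mul, mul_comm]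
        by_cases h : φ (e c) = 0
        · rw [h, zero_mul, zero_mul]
        congr 1
        rw [← card_factor ht e (hφ.supp _ h), Nat.card_eq_fintype_card, Fintype.card_subtype,
          ← Finset.sum_boole]
        refine Finset.sum_congr rfl fun i _ => ?_
        by_cases h1 : IsConj i t
        · by_cases h2 : IsConj (i⁻¹ * (c : G)) t
          · rw [classInd_of h1, classInd_of h2, if_pos ⟨h1, h2⟩, one_mul]
          · rw [classInd_of_not h2, if_neg (fun h => h2 h.2), mul_zero]
        · rw [classInd_of_not h1, if_neg (fun h => h1 h.1), zero_mul]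
    _ = (Nat.card G : ℂ) / 48 * N := by
        rw [sum_comp e (fun g => φ g * (qn (toQuad g) : ℂ)), hN, card_centralizer e]
        push_cast
        ring

end Cfsg.Agent.Lib.GLTwoThree
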