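import Cfsg.Agent.Lib.GLTwoThree.PlaneLocal
import Cfsg.Agent.Lib.PlaneThree.Unique
import Cfsg.Agent.Lib.Steiner.Unique

/-!
# Simple groups of order 5616 with the centraliser of an involution GL(2,3) are isomorphic

They act on a projective plane of order three whose points and lines are the conjugates of two
subgroups of order nine.
-/

set_option autoImplicit false
set_option linter.unusedSectionVars false
set_option linter.style.haveILetI false
set_option synthInstance.maxSize 1024

namespace Cfsg.Agent.Lib.GLTwoThree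

open Cfsg Subgroup
open Cfsg.Agent.Lib.PlaneThree (MPt mLines IsPlane)

universe u

section Generic

variable {G : Type u} [Group G] [Finite G]

/-- The cosets of the normaliser. -/
abbrev Conjs (E : Subgroup G) := G ⧸ normalizer (E : Set G)

/-- The subgroup belonging to a coset of the normaliser. -/
noncomputable def sub (E : Subgroup G) (p : Conjs E) : Subgroup G :=
  E.comap (MulAut.conj p.out⁻¹).toMonoidHom

theorem mem_sub_mk (E : Subgroup G) (z g : G) :
    z ∈ sub E (QuotientGroup.mk g) ↔ g⁻¹ * z * g ∈ E := by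
  obtain ⟨n, hn⟩ := QuotientGroup.mk_out_eq_mul (normalizer (E : Set G)) g
  show MulAut.conj _ z ∈ E ↔ _
  rw [MulAut.conj_apply, inv_inv, hn, mul_inv_rev]
  have h := mem_normalizer_iff.1 (inv_mem n.2) (g⁻¹ * z * g)
  simp only [inv_inv] at h
  rw [show (n : G)⁻¹ * g⁻¹ * z * (g * (n : G)) = (n : G)⁻¹ * (g⁻¹ * z * g) * (n : G) by group]
  exact h.symm

theorem mem_sub_smul (E : Subgroup G) (z h : G) (p : Conjs E) :
    h * z * h⁻¹ ∈ sub E (h • p) ↔ z ∈ sub E p := by
  obtain ⟨g, rfl⟩ := QuotientGroup.mk_surjective p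
  rw [← mul_one h, MulAction.Quotient.smul_mk, mem_sub_mk, mem_sub_mk, mul_one]
  rw [show (h • g)⁻¹ * (h * z * h⁻¹) * (h • g) = g⁻¹ * z * g by rw [smul_eq_mul]; group]

theorem card_ne_one_elt (H : Subgroup G) : Nat.card {z : H // z ≠ 1} = Nat.card H - 1 := by
  classical
  haveI := Fintype.ofFinite H
  rw [Nat.card_eq_fintype_card, Fintype.card_subtype_compl, Fintype.card_subtype_eq, Nat.card_eq_fintype_card]

variable {y : G} {E E' : Subgroup G}

/-- A point and a line are incident when their subgroups meet nontrivially. -/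
def Inc (p : Conjs E) (q : Conjs E') : Prop := ∃ z, z ≠ 1 ∧ z ∈ sub E p ∧ z ∈ sub E' q

theorem Inc.symm {p : Conjs E} {q : Conjs E'} (h : Inc p q) : Inc q p :=
  let ⟨z, h1, h2, h3⟩ := h
  ⟨z, h1, h3, h2⟩

theorem card_sub (hE : NineGood y E) (p : Conjs E) : Nat.card (sub E p) = 9 := by
  rw [← hE.card]
  refine Nat.card_congr
    { toFun := fun z => ⟨MulAut.conj p.out⁻¹ z.1, z.2⟩
      invFun := fun a => ⟨(MulAut.conj p.out⁻¹).symm a.1, by
        show MulAut.conj p.out⁻¹ _ ∈ E
        rw [MulEquiv.apply_symm_apply]; exact a.2⟩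
      left_inv := fun z => Subtype.ext (MulEquiv.symm_apply_apply _ _)
      right_inv := fun a => Subtype.ext (MulEquiv.apply_symm_apply _ _) }

theorem sub_comm (hE : NineGood y E) {p : Conjs E} {a b : G} (ha : a ∈ sub E p) (hb : b ∈ sub E p) :
    a * b = b * a :=
  (MulAut.conj p.out⁻¹).injective (by rw [map_mul, map_mul]; exact hE.comm _ ha _ hb)

theorem exists_conj (hE : NineGood y E) {p : Conjs E} {z : G} (hz : z ∈ sub E p) (hz1 : z ≠ 1) :
    ∃ g : G, g * y * g⁻¹ = z ∧ QuotientGroup.mk g = p := by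
  obtain ⟨g, rfl⟩ := QuotientGroup.mk_surjective p
  rw [mem_sub_mk] at hz
  obtain ⟨k, hk, he⟩ := hE.trans _ hz fun h => hz1 (by
    calc z = g * (g⁻¹ * z * g) * g⁻¹ := by group
      _ = 1 := by rw [h, mul_one, mul_inv_cancel])
  refine ⟨g * k, ?_, QuotientGroup.mk_mul_of_mem g hk⟩
  calc g * k * y * (g * k)⁻¹ = g * (k * y * k⁻¹) * g⁻¹ := by group
    _ = z := by rw [he]; group

theorem mem_sub_conj (hE : NineGood y E) (g : G) : g * y * g⁻¹ ∈ sub E (QuotientGroup.mk g) := by
  rw [mem_sub_mk, show g⁻¹ * (g * y * g⁻¹) * g = y by group]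
  exact hE.mem

theorem sub_unique (hE : NineGood y E) {p p' : Conjs E} {z : G} (hz : z ∈ sub E p) (hz' : z ∈ sub E p')
    (hz1 : z ≠ 1) : p = p' := by
  obtain ⟨g, hg, rfl⟩ := exists_conj hE hz hz1
  obtain ⟨g', hg', rfl⟩ := exists_conj hE hz' hz1
  rw [QuotientGroup.eq]
  refine hE.cent (mem_centralizer_iff_commute.2 ?_)
  calc g⁻¹ * g' * y = g⁻¹ * (g' * y * g'⁻¹) * g' := by group
    _ = g⁻¹ * (g * y * g⁻¹) * g' := by rw [hg, hg']
    _ = y * (g⁻¹ * g') := by group

theorem fix_of_commute (hE : NineGood y E) {p : Conjs E} {a z : G} (hz : z ∈ sub E p) (hz1 : z ≠ 1)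
    (h : a * z = z * a) : a • p = p := by
  refine sub_unique hE ?_ hz hz1
  have h' := (mem_sub_smul E z a p).2 hz
  rwa [h, mul_inv_cancel_right] at h'

theorem card_inter (hE : NineGood y E) (hE' : NineGood y E') (hne : E ≠ E') {p : Conjs E} {q : Conjs E'}
    (h : Inc p q) : Nat.card ↥(sub E p ⊓ sub E' q) = 3 := by
  obtain ⟨z, hz1, hzp, hzq⟩ := h
  have hd : Nat.card ↥(sub E p ⊓ sub E' q) ∈ Nat.divisors 9 :=
    Nat.mem_divisors.2 ⟨card_sub hE p ▸ card_dvd_of_le inf_le_left, by norm_num⟩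
  have key : ∀ k ∈ Nat.divisors 9, k = 3 ∨ k = 1 ∨ k = 9 := by decide
  rcases key _ hd with h | h | h
  · exact h
  · exfalso
    have := (eq_bot_iff_forall _).1 (card_eq_one.1 h) z ⟨hzp, hzq⟩
    exact hz1 this
  · exfalso
    apply hne
    have h1 := eq_of_le_of_card_ge (inf_le_left : sub E p ⊓ sub E' q ≤ sub E p) (by rw [h, card_sub hE])
    have h2 := eq_of_le_of_card_ge (inf_le_right : sub E p ⊓ sub E' q ≤ sub E' q) (by rw [h, card_sub hE'])
    have heq : sub E p = sub E' q := h1.symm.trans h2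
    have hy1 : y ≠ 1 := by
      intro he
      obtain ⟨g, hg, -⟩ := exists_conj hE hzp hz1
      rw [he, mul_one, mul_inv_cancel] at hg
      exact hz1 hg.symm
    obtain ⟨g, rfl⟩ := QuotientGroup.mk_surjective q
    have hmem : g * y * g⁻¹ ∈ sub E p := heq ▸ mem_sub_conj hE' g
    have hp : p = QuotientGroup.mk g :=
      sub_unique hE hmem (mem_sub_conj hE g) (by rwa [Ne, conj_eq_one_iff])
    ext a
    have := SetLike.ext_iff.1 heq (g * a * g⁻¹)
    rwa [hp, mem_sub_mk, mem_sub_mk, show g⁻¹ * (g * a * g⁻¹) * g = a by group] at this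

/-- Every point lies on four lines. -/
theorem card_inc (hE : NineGood y E) (hE' : NineGood y E') (hne : E ≠ E') (p : Conjs E) :
    Nat.card {q : Conjs E' // Inc p q} = 4 := by
  classical
  have hex : ∀ z : {z : sub E p // z ≠ 1}, ∃ q : {q : Conjs E' // Inc p q}, (z.1 : G) ∈ sub E' q.1 := by
    intro z
    have hz1 : (z.1 : G) ≠ 1 := fun h => z.2 (Subtype.ext h)
    obtain ⟨g, hg, -⟩ := exists_conj hE z.1.2 hz1
    have hq : (z.1 : G) ∈ sub E' (QuotientGroup.mk g) := by
      have := mem_sub_conj hE' g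
      rwa [hg] at this
    exact ⟨⟨QuotientGroup.mk g, z.1, hz1, z.1.2, hq⟩, hq⟩
  choose f hf using hex
  haveI := Fintype.ofFinite {q : Conjs E' // Inc p q}
  have h := Nat.card_congr (Equiv.sigmaFiberEquiv f)
  rw [Nat.card_sigma, card_ne_one_elt, card_sub hE] at h
  have hfib : ∀ q, Nat.card {z // f z = q} = 2 := by
    intro q
    rw [show 2 = Nat.card ↥(sub E p ⊓ sub E' q.1) - 1 by rw [card_inter hE hE' hne q.2], ← card_ne_one_elt]
    refine Nat.card_congr
      { toFun := fun z => ⟨⟨z.1.1.1, z.1.1.2, (by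
          have := hf z.1; rw [z.2] at this; exact this)⟩, fun h => z.1.2 (Subtype.ext
          (congrArg (fun r : ↥(sub E p ⊓ sub E' q.1) => (r : G)) h :))⟩
        invFun := fun z => ⟨⟨⟨z.1.1, z.1.2.1⟩, fun h => z.2 (Subtype.ext
          (congrArg (fun r : ↥(sub E p) => (r : G)) h :))⟩, ?_⟩
        left_inv := fun z => rfl
        right_inv := fun z => rfl }
    exact Subtype.ext (sub_unique hE' (hf _) z.1.2.2 fun h => z.2 (Subtype.ext h))
  rw [Finset.sum_congr rfl (fun q _ => hfib q), Finset.sum_const, Finset.card_univ, smul_eq_mul,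
    ← Nat.card_eq_fintype_card] at h
  omega

/-- Two points lie on at most one line. -/
theorem line_unique (hE : NineGood y E) (hE' : NineGood y E') (hG : Nat.card G = 5616)
    {p p' : Conjs E} {q q' : Conjs E'} (hp : p ≠ p') (h1 : Inc p q) (h2 : Inc p' q) (h3 : Inc p q')
    (h4 : Inc p' q') : q = q' := by
  haveI : Fact (Nat.Prime 3) := ⟨Nat.prime_three⟩
  obtain ⟨a, ha1, hap, haq⟩ := h1
  obtain ⟨b, hb1, hbp, hbq⟩ := h2
  obtain ⟨a', ha1', hap', haq'⟩ := h3
  obtain ⟨b', hb1', hbp', hbq'⟩ := h4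
  by_contra hq
  set S := sub E p ⊓ MulAction.stabilizer G p' with hS
  have haS : a ∈ S := ⟨hap, fix_of_commute hE hbp hb1 (sub_comm hE' haq hbq)⟩
  have haS' : a' ∈ S := ⟨hap', fix_of_commute hE hbp' hb1' (sub_comm hE' haq' hbq')⟩
  have hle : sub E p ≤ MulAction.stabilizer G p' := by
    refine le_trans (le_of_eq (eq_of_le_of_card_ge (inf_le_left : S ≤ sub E p) ?_).symm) inf_le_right
    rw [card_sub hE]
    by_contra hlt
    push Not at hlt
    have key : ∀ k ∈ Nat.divisors 9, k < 9 → k ≤ 3 := by decide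
    have h3 := key _ (Nat.mem_divisors.2 ⟨card_sub hE p ▸ card_dvd_of_le (inf_le_left : S ≤ sub E p),
      by norm_num⟩) hlt
    have ha3 : orderOf a = 3 := by
      have hd : orderOf a ∈ Nat.divisors 9 := by
        refine Nat.mem_divisors.2 ⟨?_, by norm_num⟩
        have := orderOf_dvd_natCard (⟨a, hap⟩ : sub E p)
        rwa [orderOf_mk, card_sub hE] at this
      have key' : ∀ k ∈ Nat.divisors 9, k ≤ 3 → k = 1 ∨ k = 3 := by decide
      have hle3 : orderOf a ≤ 3 := by
        rw [← Nat.card_zpowers]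
        exact le_trans (Nat.le_of_dvd Nat.card_pos (card_dvd_of_le (zpowers_le.2 haS))) h3
      exact (key' _ hd hle3).resolve_left fun h => ha1 (orderOf_eq_one_iff.1 h)
    have hSa : zpowers a = S := eq_of_le_of_card_ge (zpowers_le.2 haS) (by rw [Nat.card_zpowers, ha3]; exact h3)
    have hq' : a' ∈ sub E' q := by
      have : a' ∈ zpowers a := hSa ▸ haS'
      exact zpowers_le.2 haq this
    exact hq (sub_unique hE' hq' haq' ha1')
  have hnorm : sub E p ≤ normalizer (sub E p' : Set G) := fun x hx => mem_normalizer_of_map fun z hz => by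
    have h := (mem_sub_smul E z x p').2 hz
    rwa [show x • p' = p' from hle hx] at h
  have hP : ∀ r : Conjs E, IsPGroup 3 (sub E r) := fun r => IsPGroup.of_card (n := 2) (by rw [card_sub hE]; norm_num)
  have hsup := (hP p).to_sup_of_normal_right' (hP p') hnorm
  obtain ⟨k, hk⟩ := IsPGroup.iff_card.1 hsup
  have hk3 : k ≤ 3 := by
    by_contra hk4
    have h1 : 3 ^ k ∣ 5616 := hk ▸ hG ▸ card_subgroup_dvd_card (sub E p ⊔ sub E p')
    have := (pow_dvd_pow 3 (show 4 ≤ k by omega)).trans h1
    norm_num at this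
  let f : sub E p × sub E p' → ↥(sub E p ⊔ sub E p') := fun r =>
    ⟨r.1.1 * r.2.1, mul_mem (mem_sup_left r.1.2) (mem_sup_right r.2.2)⟩
  have hinj : Function.Injective f := by
    rintro ⟨x, x'⟩ ⟨w, w'⟩ h
    have h' : (x : G) * x' = (w : G) * w' := congrArg Subtype.val h
    have hm : (w : G)⁻¹ * x = (w' : G) * (x' : G)⁻¹ := by
      calc (w : G)⁻¹ * x = (w : G)⁻¹ * ((x : G) * x') * (x' : G)⁻¹ := by group
        _ = _ := by rw [h']; group
    have hone : (w : G)⁻¹ * x = 1 := by
      by_contra hne1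
      exact hp (sub_unique hE (mul_mem (inv_mem w.2) x.2) (hm ▸ mul_mem w'.2 (inv_mem x'.2)) hne1)
    have hxw : x = w := Subtype.ext (inv_mul_eq_one.1 hone).symm
    subst hxw
    exact Prod.ext rfl (Subtype.ext (mul_left_cancel h'))
  have hcard := Nat.card_le_card_of_injective f hinj
  rw [Nat.card_prod, card_sub hE, card_sub hE, hk] at hcard
  have := Nat.pow_le_pow_right (show 0 < 3 by norm_num) hk3
  omega

end Generic

variable {G : Type u} [Group G] [Finite G] [IsSimpleGroup G] {t : G}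
  (ht : orderOf t = 2) (e : centralizer ({t} : Set G) ≃* GL23) (hG : Nat.card G = 5616)

include ht e hG in
/-- The group is the automorphism group of the plane of order three. -/
theorem nonempty_equiv_aut : Nonempty (G ≃* Cfsg.setSystemAut (mLines : Set (Finset MPt))) := by
  classical
  obtain ⟨y, v, hyv⟩ := exists_invPair ht e
  obtain ⟨E, E', hE, hE', hne⟩ := exists_two_good ht e hG hyv
  haveI := Fintype.ofFinite (Conjs E)
  haveI := Fintype.ofFinite (Conjs E')
  have hcα : Fintype.card (Conjs E) = 13 := by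
    rw [← Nat.card_eq_fintype_card, ← index_eq_card, hE.index]
  let blk : Conjs E' → Finset (Conjs E) := fun q => Finset.univ.filter fun p => Inc p q
  have hblk : ∀ q, (blk q).card = 4 := fun q => by
    rw [← card_inc hE' hE hne.symm q, Nat.card_eq_fintype_card, Fintype.card_subtype]
    exact congrArg Finset.card (Finset.filter_congr fun p _ => ⟨Inc.symm, Inc.symm⟩)
  have hmem : ∀ p q, p ∈ blk q ↔ Inc p q := fun p q => by simp [blk]
  have hexline : ∀ p p' : Conjs E, p ≠ p' → ∃ q, p ∈ blk q ∧ p' ∈ blk q := by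
    intro p p' hpp
    set A := (Finset.univ : Finset (Conjs E')).filter fun q => Inc p q with hA
    have hA4 : A.card = 4 := by
      rw [hA, ← Fintype.card_subtype, ← Nat.card_eq_fintype_card, card_inc hE hE' hne]
    have hU : A.biUnion (fun q => (blk q).erase p) = Finset.univ.erase p := by
      refine Finset.eq_of_subset_of_card_le (fun x hx => ?_) ?_
      · obtain ⟨q, -, hxq⟩ := Finset.mem_biUnion.1 hx
        exact Finset.mem_erase.2 ⟨(Finset.mem_erase.1 hxq).1, Finset.mem_univ _⟩
      · rw [Finset.card_erase_of_mem (Finset.mem_univ p), Finset.card_univ, hcα, Finset.card_biUnion]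
        · rw [Finset.sum_congr rfl (g := fun _ => 3) (fun q hq => by
            rw [Finset.card_erase_of_mem ((hmem p q).2 (Finset.mem_filter.1 hq).2), hblk]),
            Finset.sum_const, hA4]
          norm_num
        · intro q hq q' hq' hqq
          refine Finset.disjoint_left.2 fun x hx hx' => hqq ?_
          simp only [hA, Finset.mem_coe, Finset.mem_filter] at hq hq'
          exact line_unique hE hE' hG (Finset.mem_erase.1 hx).1.symm hq.2 ((hmem _ _).1 (Finset.mem_erase.1 hx).2)
            hq'.2 ((hmem _ _).1 (Finset.mem_erase.1 hx').2)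
    obtain ⟨q, hq, hq'⟩ := Finset.mem_biUnion.1
      (hU.symm ▸ Finset.mem_erase.2 ⟨hpp.symm, Finset.mem_univ _⟩ : p' ∈ A.biUnion (fun q => (blk q).erase p))
    exact ⟨q, (hmem p q).2 (Finset.mem_filter.1 hq).2, (Finset.mem_erase.1 hq').2⟩
  set L : Set (Finset (Conjs E)) := Set.range blk with hL
  have hplane : IsPlane L := by
    refine ⟨hcα, ?_, fun s hs => ?_⟩
    · rintro _ ⟨q, rfl⟩; exact hblk q
    · obtain ⟨p, p', hpp, rfl⟩ := Finset.card_eq_two.1 hs
      obtain ⟨q, h1, h2⟩ := hexline p p' hpp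
      refine ⟨blk q, ⟨⟨q, rfl⟩, by simp [Finset.insert_subset_iff, h1, h2]⟩, ?_⟩
      rintro _ ⟨⟨q', rfl⟩, hsub⟩
      simp only [Finset.insert_subset_iff, Finset.singleton_subset_iff] at hsub
      rw [line_unique hE hE' hG hpp ((hmem _ _).1 h1) ((hmem _ _).1 h2) ((hmem _ _).1 hsub.1)
        ((hmem _ _).1 hsub.2)]
  have hinc : ∀ (h : G) (p : Conjs E) (q : Conjs E'), Inc p q → Inc (h • p) (h • q) := by
    rintro h p q ⟨z, hz1, hzp, hzq⟩
    exact ⟨h * z * h⁻¹, by rwa [Ne, conj_eq_one_iff], (mem_sub_smul E z h p).2 hzp, (mem_sub_smul E' z h q).2 hzq⟩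
  have himg : ∀ (h : G) (q : Conjs E'), (blk q).image (MulAction.toPermHom G (Conjs E) h) = blk (h • q) := by
    intro h q
    refine Finset.eq_of_subset_of_card_le (fun x hx => ?_) ?_
    · obtain ⟨p, hp, rfl⟩ := Finset.mem_image.1 hx
      exact (hmem _ _).2 (hinc h p q ((hmem _ _).1 hp))
    · rw [Finset.card_image_of_injective _ (Equiv.injective _), hblk, hblk]
  have haut : ∀ h : G, MulAction.toPermHom G (Conjs E) h ∈ Cfsg.setSystemAut L := fun h => by
    refine Steiner.mem_aut_of_le ?_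
    rintro _ ⟨q, rfl⟩
    exact ⟨h • q, (himg h q).symm⟩
  let φ : G →* Cfsg.setSystemAut L := (MulAction.toPermHom G (Conjs E)).codRestrict _ haut
  have hker : φ.ker = ⊥ := by
    refine ((inferInstance : φ.ker.Normal).eq_bot_or_eq_top).resolve_right fun h => ?_
    have hN : normalizer (E : Set G) = ⊤ := eq_top_iff.2 fun g _ => by
      have hg : φ g = 1 := MonoidHom.mem_ker.1 (h ▸ mem_top g)
      have hg' : g • (QuotientGroup.mk 1 : Conjs E) = QuotientGroup.mk 1 := by
        have := congrArg (fun σ : Cfsg.setSystemAut L => (σ : Equiv.Perm (Conjs E)) (QuotientGroup.mk 1)) hg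
        simpa [φ] using this
      rw [MulAction.Quotient.smul_mk, smul_eq_mul, mul_one] at hg'
      simpa using QuotientGroup.eq.1 hg'
    have := hE.index
    rw [hN, index_top] at this
    omega
  obtain ⟨-, F, -⟩ := Steiner.exists_autEquiv hplane.exists_iso
  let ψ : G →* Cfsg.setSystemAut (mLines : Set (Finset MPt)) := F.toMonoidHom.comp φ
  have hinj : Function.Injective ψ := F.injective.comp ((MonoidHom.ker_eq_bot_iff φ).1 hker)
  have hbij : Function.Bijective ψ :=
    (Nat.bijective_iff_injective_and_card ψ).2 ⟨hinj, le_antisymm (Nat.card_le_card_of_injective ψ hinj)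
      (hG ▸ PlaneThree.card_aut_le)⟩
  exact ⟨MulEquiv.ofBijective ψ hbij⟩

/-- Two simple groups of order 5616 with such involution centralisers are isomorphic. -/
theorem iso5616 {A B : Type*} [Group A] [Group B] [IsSimpleGroup A] [IsSimpleGroup B]
    (hA : Nat.card A = 5616) (hB : Nat.card B = 5616) {a : A} (ha : orderOf a = 2)
    (ea : centralizer ({a} : Set A) ≃* GL23) {b : B} (hb : orderOf b = 2)
    (eb : centralizer ({b} : Set B) ≃* GL23) : Nonempty (A ≃* B) := by
  haveI : Finite A := Nat.finite_of_card_ne_zero (by rw [hA]; norm_num)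
  haveI : Finite B := Nat.finite_of_card_ne_zero (by rw [hB]; norm_num)
  obtain ⟨f⟩ := nonempty_equiv_aut ha ea hA
  obtain ⟨g⟩ := nonempty_equiv_aut hb eb hB
  exact ⟨f.trans g.symm⟩

end Cfsg.Agent.Lib.GLTwoThree
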