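import Cfsg.Agent.Lib.GLTwoThree.ThreeLocal

/-!
# The two classes of elementary abelian subgroups of order nine at order 5616
-/

set_option autoImplicit false
set_option linter.unusedSectionVars false
set_option linter.style.haveILetI false
set_option synthInstance.maxSize 1024

namespace Cfsg.Agent.Lib.GLTwoThree

open Cfsg Subgroup

universe u

/-- A subgroup of order nine, with the nontrivial elements fused in its normaliser of index 13. -/
structure NineGood {G : Type u} [Group G] (y : G) (E : Subgroup G) : Prop where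
  card : Nat.card E = 9
  comm : ∀ a ∈ E, ∀ b ∈ E, a * b = b * a
  mem : y ∈ E
  trans : ∀ z ∈ E, z ≠ 1 → ∃ k ∈ normalizer (E : Set G), k * y * k⁻¹ = z
  cent : centralizer ({y} : Set G) ≤ normalizer (E : Set G)
  index : (normalizer (E : Set G)).index = 13

/-- The pair of an element of order three and an involution inverting it. -/
structure InvPair {G : Type u} [Group G] (t y v : G) : Prop where
  order : orderOf y = 3
  comm : t * y = y * t
  sq : v * v = 1
  ne_one : v ≠ 1
  vt : v * t = t * v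
  ne : v ≠ t
  inv : v * y * v = y⁻¹

theorem mem_normalizer_of_map {G : Type u} [Group G] [Finite G] {E : Subgroup G} {s : G}
    (h : ∀ a ∈ E, s * a * s⁻¹ ∈ E) : s ∈ normalizer (E : Set G) := by
  have hsub : E.map (MulAut.conj s).toMonoidHom = E := by
    refine eq_of_le_of_card_ge ?_ (card_map_of_injective (MulAut.conj s).injective).ge
    rintro _ ⟨a, ha, rfl⟩
    exact h a ha
  rw [mem_normalizer_iff]
  intro z
  constructor
  · exact h z
  · intro hz
    rw [← hsub] at hz
    obtain ⟨z', hz', he⟩ := hz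
    exact (MulAut.conj s).injective he ▸ hz'

theorem card_conjSet {G : Type u} [Group G] [Finite G] (N : Subgroup G) (y : G) :
    Nat.card {z : G // ∃ n ∈ N, n * y * n⁻¹ = z} * Nat.card ↥(N ⊓ centralizer ({y} : Set G)) = Nat.card N := by
  classical
  let _ : MulAction N G := MulAction.compHom G ((MulAut.conj : G →* MulAut G).comp N.subtype)
  have hsmul : ∀ (n : N) (a : G), n • a = (n : G) * a * (n : G)⁻¹ := fun n a => rfl
  haveI := Fintype.ofFinite N
  haveI := Fintype.ofFinite (MulAction.orbit N y)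
  haveI := Fintype.ofFinite (MulAction.stabilizer N y)
  have h := MulAction.card_orbit_mul_card_stabilizer_eq_card_group N y
  rw [← Nat.card_eq_fintype_card, ← Nat.card_eq_fintype_card, ← Nat.card_eq_fintype_card] at h
  rw [← h]
  congr 1
  · refine Nat.card_congr (Equiv.subtypeEquivRight fun z => ?_)
    constructor
    · rintro ⟨n, hn, rfl⟩
      exact ⟨⟨n, hn⟩, hsmul _ _⟩
    · rintro ⟨n, rfl⟩
      exact ⟨n, n.2, (hsmul _ _).symm⟩
  · refine Nat.card_congr
      { toFun := fun n => ⟨⟨n.1, n.2.1⟩, ?_⟩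
        invFun := fun n => ⟨n.1.1, n.1.2, ?_⟩
        left_inv := fun n => rfl
        right_inv := fun n => rfl }
    · show (⟨n.1, n.2.1⟩ : N) • y = y
      rw [hsmul, mem_centralizer_iff_commute.1 n.2.2, mul_inv_cancel_right]
    · have h' : (n.1 : G) * y * (n.1 : G)⁻¹ = y := (hsmul _ _).symm.trans n.2
      exact mem_centralizer_iff_commute.2 (mul_inv_eq_iff_eq_mul.1 h')

theorem eq_one_of_sq_three {G : Type u} [Group G] {z : G} (h2 : z = z⁻¹) (ho : Odd (orderOf z)) : z = 1 := by
  have hd : orderOf z ∣ 2 := orderOf_dvd_of_pow_eq_one (by rw [sq]; nth_rw 1 [h2]; exact inv_mul_cancel z)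
  rcases (Nat.dvd_prime Nat.prime_two).1 hd with h | h
  · exact orderOf_eq_one_iff.1 h
  · rw [h] at ho; exact absurd ho (by decide)

variable {G : Type u} [Group G] [Finite G] [IsSimpleGroup G] {t : G}
  (ht : orderOf t = 2) (e : centralizer ({t} : Set G) ≃* GL23) (hG : Nat.card G = 5616)

include ht e in
/-- The odd part of a centraliser meets the centraliser of an involution in at most three elements. -/
theorem card_inf_le {P : Subgroup G} (hP : Nat.card P = 27) {s : G} (hs : s * s = 1) (hs1 : s ≠ 1) :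
    Nat.card ↥(P ⊓ centralizer ({s} : Set G)) ≤ 3 := by
  obtain ⟨f⟩ := nonempty_iso ht e hs hs1
  have h48 : Nat.card (centralizer ({s} : Set G)) = 48 := by rw [Nat.card_congr f.toEquiv, card_gl]
  have h := Nat.dvd_gcd (hP ▸ card_dvd_of_le (inf_le_left : P ⊓ centralizer ({s} : Set G) ≤ P))
    (h48 ▸ card_dvd_of_le (inf_le_right : P ⊓ centralizer ({s} : Set G) ≤ centralizer ({s} : Set G)))
  exact Nat.le_of_dvd (by norm_num) (h.trans (by norm_num))

theorem conj_mem_oddPart {G : Type u} [Group G] {y s g : G} {P : Subgroup G}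
    (hP : ∀ g, g ∈ P ↔ g * y = y * g ∧ Odd (orderOf g)) (hs : s * s = 1)
    (hsy : s * y * s = y ∨ s * y * s = y⁻¹) (hg : g ∈ P) : s * g * s ∈ P := by
  obtain ⟨hc, ho⟩ := (hP g).1 hg
  have hsi : s⁻¹ = s := inv_eq_of_mul_eq_one_right hs
  refine (hP _).2 ⟨?_, ?_⟩
  · have key : Commute (s * g * s) (s * y * s) := by
      have h := (show Commute g y from hc).map (MulAut.conj s).toMonoidHom
      simpa [hsi] using h
    rcases hsy with h | h
    · rw [h] at key; exact key
    · rw [h] at key; exact Commute.inv_right_iff.1 key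
  · have : s * g * s = MulAut.conj s g := by simp [hsi]
    rwa [this, MulEquiv.orderOf_eq]

include ht in
theorem InvPair.left {y v : G} (hyv : InvPair t y v) : t * y * t = y := by
  rw [hyv.comm, mul_assoc, t_mul_t ht, mul_one]

include ht in
/-- Elements centralised by `t` and inverting `y` come in pairs. -/
theorem InvPair.swap {y v : G} (hyv : InvPair t y v) : InvPair t y (t * v) := by
  have htt := t_mul_t ht
  refine ⟨hyv.order, hyv.comm, ?_, ?_, ?_, ?_, ?_⟩
  · rw [show t * v * (t * v) = t * (v * t) * v by group, hyv.vt, show t * (t * v) * v = t * t * (v * v) by group,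
      htt, hyv.sq, one_mul]
  · exact fun h => hyv.ne (mul_left_cancel (h.trans htt.symm))
  · rw [mul_assoc, hyv.vt]
  · exact fun h => hyv.ne_one (mul_left_cancel (h.trans (mul_one t).symm))
  · calc t * v * y * (t * v) = t * (v * y * (t * v)) := by group
      _ = t * (v * y * (v * t)) := by rw [hyv.vt]
      _ = t * (v * y * v) * t := by group
      _ = t * y⁻¹ * t := by rw [hyv.inv]
      _ = y⁻¹ := by
        have h : t * y⁻¹ = y⁻¹ * t := ((show Commute t y from hyv.comm).inv_right).eq
        rw [h, mul_assoc, htt, mul_one]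

include ht e in
/-- The fixed points of `t` on the odd part. -/
theorem eq_pow_of_fix {y g : G} {P : Subgroup G} (hy : orderOf y = 3) (hty : t * y = y * t)
    (hP : Nat.card P = 27) (hyP : y ∈ P) (hg : g ∈ P) (htg : t * g = g * t) : g ∈ zpowers y := by
  have hle : zpowers y ≤ P ⊓ centralizer ({t} : Set G) :=
    zpowers_le.2 ⟨hyP, mem_centralizer_iff_commute.2 hty.symm⟩
  have h := eq_of_le_of_card_ge hle (by
    rw [Nat.card_zpowers, hy]; exact card_inf_le ht e hP (t_mul_t ht) (t_ne_one ht))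
  rw [h]
  exact ⟨hg, mem_centralizer_iff_commute.2 htg.symm⟩

include ht e in
/-- An element of order three in the odd part centralised by `v`. -/
theorem exists_fix {y v : G} (hyv : InvPair t y v) {P : Subgroup G}
    (hP : ∀ g, g ∈ P ↔ g * y = y * g ∧ Odd (orderOf g)) (hP27 : Nat.card P = 27) :
    ∃ w ∈ P, orderOf w = 3 ∧ v * w = w * v ∧ t * w * t = w⁻¹ := by
  classical
  have htt := t_mul_t ht
  have hvv := hyv.sq
  have hyP : y ∈ P := (hP y).2 ⟨rfl, by rw [hyv.order]; decide⟩
  have hvP : ∀ g ∈ P, v * g * v ∈ P := fun g hg => conj_mem_oddPart hP hvv (Or.inr hyv.inv) hg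
  have htP : ∀ g ∈ P, t * g * t ∈ P := fun g hg => conj_mem_oddPart hP htt (Or.inl (hyv.left ht)) hg
  have hcomm : ∀ (s g : G), s * s = 1 → s * g * s = g → s * g = g * s := fun s g hs h => by
    calc s * g = s * g * (s * s) := by rw [hs, mul_one]
      _ = (s * g * s) * s := by group
      _ = g * s := by rw [h]
  obtain ⟨w, hwP, hwv, hw1⟩ : ∃ w ∈ P, v * w = w * v ∧ w ≠ 1 := by
    by_contra hc
    push Not at hc
    haveI : Finite P := inferInstance
    have hinj : Function.Injective (fun g : P => (⟨(g : G)⁻¹ * (v * g * v), P.mul_mem (P.inv_mem g.2) (hvP _ g.2)⟩ : P)) := by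
      intro a b h
      have h' : (a : G)⁻¹ * (v * a * v) = (b : G)⁻¹ * (v * b * v) := congrArg Subtype.val h
      have h2 : v * ((b : G) * (a : G)⁻¹) * v = (b : G) * (a : G)⁻¹ := by
        calc v * ((b : G) * (a : G)⁻¹) * v = (v * b * v) * (v * (a : G)⁻¹ * v) := by
              rw [show v * (b : G) * v * (v * (a : G)⁻¹ * v) = v * b * (v * v) * (a : G)⁻¹ * v by group, hvv]
              group
          _ = (b : G) * ((b : G)⁻¹ * (v * b * v)) * (v * (a : G)⁻¹ * v) := by group
          _ = (b : G) * ((a : G)⁻¹ * (v * a * v)) * (v * (a : G)⁻¹ * v) := by rw [h']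
          _ = (b : G) * (a : G)⁻¹ * (v * a * (v * v) * (a : G)⁻¹ * v) := by group
          _ = (b : G) * (a : G)⁻¹ * (v * v) := by rw [hvv, mul_one (v * (a : G)), mul_inv_cancel_right, hvv]
          _ = _ := by rw [hvv, mul_one]
      have := hc _ (P.mul_mem b.2 (P.inv_mem a.2)) (hcomm _ _ hvv h2)
      exact Subtype.ext (mul_inv_eq_one.1 this).symm
    have hinv : ∀ g ∈ P, v * g * v = g⁻¹ := by
      intro g hg
      obtain ⟨a, ha⟩ := (Finite.injective_iff_surjective.1 hinj) ⟨g, hg⟩
      have ha' : (a : G)⁻¹ * (v * a * v) = g := congrArg Subtype.val ha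
      rw [← ha', mul_inv_rev, inv_inv, mul_inv_rev, mul_inv_rev, inv_eq_of_mul_eq_one_right hvv,
        show v * ((a : G)⁻¹ * (v * a * v)) * v = v * (a : G)⁻¹ * v * a * (v * v) by group, hvv]
      group
    have hab : ∀ a ∈ P, ∀ b ∈ P, a * b = b * a := by
      intro a ha b hb
      have h1 := hinv _ (P.mul_mem ha hb)
      have h2 : v * (a * b) * v = (v * a * v) * (v * b * v) := by
        rw [show v * a * v * (v * b * v) = v * a * (v * v) * b * v by group, hvv]; group
      rw [h2, hinv a ha, hinv b hb, ← mul_inv_rev] at h1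
      exact (inv_injective h1).symm
    have hsw := hyv.swap ht
    have hle : ∀ g : P, (g : G)⁻¹ * (t * g * t) ∈ P ⊓ centralizer ({t * v} : Set G) := by
      intro g
      have hm := P.mul_mem (P.inv_mem g.2) (htP _ g.2)
      refine ⟨hm, mem_centralizer_iff_commute.2 (Eq.symm (hcomm _ _ hsw.sq ?_))⟩
      set h := (g : G)⁻¹ * (t * g * t) with hh
      clear_value h
      have hth : t * h * t = h⁻¹ := by
        rw [hh, mul_inv_rev, inv_inv, mul_inv_rev, mul_inv_rev, inv_eq_of_mul_eq_one_right htt,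
          show t * ((g : G)⁻¹ * (t * g * t)) * t = t * (g : G)⁻¹ * t * g * (t * t) by group, htt]
        group
      have hvh := hinv h hm
      calc t * v * h * (t * v) = t * (v * h * (t * v)) := by group
        _ = t * (v * h * (v * t)) := by rw [hyv.vt]
        _ = t * (v * h * v) * t := by group
        _ = t * h⁻¹ * t := by rw [hvh]
        _ = (t * h * t)⁻¹ := by
          rw [mul_inv_rev, mul_inv_rev, inv_eq_of_mul_eq_one_right htt, mul_assoc]
        _ = h := by rw [hth, inv_inv]
    let φ : P →* G :=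
      { toFun := fun g => (g : G)⁻¹ * (t * g * t)
        map_one' := by simp [htt]
        map_mul' := fun a b => by
          simp only [Subgroup.coe_mul]
          have h1 := hab _ (P.inv_mem b.2) _ (P.mul_mem (P.inv_mem a.2) (htP _ a.2))
          calc ((a : G) * b)⁻¹ * (t * (a * b) * t) = (b : G)⁻¹ * ((a : G)⁻¹ * (t * a * t)) * (t * b * t) := by
                rw [show t * ((a : G) * b) * t = t * a * (t * t) * b * t by rw [htt]; group]
                group
            _ = (a : G)⁻¹ * (t * a * t) * (b : G)⁻¹ * (t * b * t) := by rw [h1]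
            _ = _ := by group }
    have hr : Nat.card φ.range ≤ 3 := by
      refine le_trans (Nat.le_of_dvd Nat.card_pos (card_dvd_of_le ?_)) (card_inf_le ht e hP27 hsw.sq hsw.ne_one)
      rintro _ ⟨g, rfl⟩
      exact hle g
    have hk : Nat.card φ.ker ≤ 3 := by
      rw [← card_map_of_injective (f := P.subtype) P.subtype_injective]
      refine le_trans (Nat.le_of_dvd Nat.card_pos (card_dvd_of_le ?_)) (card_inf_le ht e hP27 htt (t_ne_one ht))
      rintro _ ⟨g, hg, rfl⟩
      have hg' : (g : G)⁻¹ * (t * g * t) = 1 := hg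
      exact ⟨g.2, mem_centralizer_iff_commute.2 (hcomm t _ htt (inv_mul_eq_one.1 hg').symm).symm⟩
    have h := φ.ker.index_mul_card
    rw [index_ker, hP27] at h
    have := Nat.mul_le_mul hr hk
    omega
  have hF := card_inf_le ht e hP27 hvv hyv.ne_one
  set F := P ⊓ centralizer ({v} : Set G) with hFdef
  have hwF : w ∈ F := ⟨hwP, mem_centralizer_iff_commute.2 hwv.symm⟩
  have hodd := ((hP w).1 hwP).2
  have hw3 : orderOf w = 3 := by
    have hd := orderOf_dvd_natCard (⟨w, hwF⟩ : F)
    rw [orderOf_mk] at hd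
    have := (Nat.le_of_dvd Nat.card_pos hd).trans hF
    obtain ⟨k, hk⟩ := hodd
    have h1 : orderOf w ≠ 1 := fun h => hw1 (orderOf_eq_one_iff.1 h)
    omega
  refine ⟨w, hwP, hw3, hwv, ?_⟩
  have hFw : zpowers w = F := eq_of_le_of_card_ge (zpowers_le.2 hwF) (by rw [Nat.card_zpowers, hw3]; exact hF)
  have hmem : t * w * t ∈ zpowers w := by
    rw [hFw]
    refine ⟨htP w hwP, mem_centralizer_iff_commute.2 ?_⟩
    calc t * w * t * v = t * w * (t * v) := by group
      _ = t * (w * v) * t := by rw [← hyv.vt]; group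
      _ = t * (v * w) * t := by rw [hwv]
      _ = (t * v) * w * t := by group
      _ = v * (t * w * t) := by rw [← hyv.vt]; group
  obtain ⟨i, hi, he⟩ : ∃ i < 3, w ^ i = t * w * t := by
    obtain ⟨i, hi⟩ := (mem_zpowers_iff_mem_range_orderOf (G := G)).1 hmem |> Finset.mem_image.1
    exact ⟨i, hw3 ▸ Finset.mem_range.1 hi.1, hi.2⟩
  interval_cases i
  · exfalso
    rw [pow_zero] at he
    apply hw1
    calc w = t * t * w * (t * t) := by rw [htt, one_mul, mul_one]
      _ = t * (t * w * t) * t := by group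
      _ = 1 := by rw [← he, mul_one, htt]
  · exfalso
    rw [pow_one] at he
    have hwy := eq_pow_of_fix ht e hyv.order hyv.comm hP27 hyP hwP (hcomm t w htt he.symm)
    obtain ⟨j, hj⟩ := hwy
    have hvw : v * w * v = w⁻¹ := by
      rw [← hj]
      show v * y ^ j * v = (y ^ j)⁻¹
      have hvi : v⁻¹ = v := inv_eq_of_mul_eq_one_right hvv
      calc v * y ^ j * v = MulAut.conj v (y ^ j) := by simp [hvi]
        _ = (MulAut.conj v y) ^ j := map_zpow _ _ _
        _ = (y⁻¹) ^ j := by rw [MulAut.conj_apply, hvi, hyv.inv]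
        _ = (y ^ j)⁻¹ := inv_zpow _ _
    rw [hwv, mul_assoc, hvv, mul_one] at hvw
    exact hw1 (eq_one_of_sq_three hvw hodd)
  · rw [← he]
    exact eq_inv_of_mul_eq_one_left (by rw [← pow_succ, show 2 + 1 = orderOf w from hw3.symm, pow_orderOf_eq_one])

include ht e hG in
/-- The odd part is not commutative. -/
theorem not_comm {y v : G} (hyv : InvPair t y v) {P : Subgroup G}
    (hP : ∀ g, g ∈ P ↔ g * y = y * g ∧ Odd (orderOf g)) (hP27 : Nat.card P = 27) :
    ¬ ∀ a ∈ P, ∀ b ∈ P, a * b = b * a := by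
  classical
  intro hab
  haveI : Fact (Nat.Prime 3) := ⟨Nat.prime_three⟩
  have htt := t_mul_t ht
  have hsw := hyv.swap ht
  have hyP : y ∈ P := (hP y).2 ⟨rfl, by rw [hyv.order]; decide⟩
  obtain ⟨w, hwP, hw3, hwv, htw⟩ := exists_fix ht e hyv hP hP27
  obtain ⟨x, hxP, hx3, hxv, htx⟩ := exists_fix ht e hsw hP hP27
  obtain ⟨Q, hQ⟩ := (IsPGroup.of_card (n := 3) hP27 : IsPGroup 3 P).exists_le_sylow
  have hQc : Nat.card (Q : Subgroup G) = 27 :=
    (SmallSimple.card_sylow_subgroup Q (k := 3) (m := 208) (by rw [hG]; norm_num) (by norm_num)).trans (by norm_num)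
  have hQP : (Q : Subgroup G) = P := (eq_of_le_of_card_ge hQ (by rw [hQc, hP27])).symm
  haveI : IsMulCommutative (Q : Subgroup G) :=
    ⟨⟨fun a b => Subtype.ext (hab _ (hQP ▸ a.2) _ (hQP ▸ b.2))⟩⟩
  set N := normalizer (P : Set G) with hN
  have hnorm : ∀ s : G, s * s = 1 → (s * y * s = y ∨ s * y * s = y⁻¹) → s ∈ N := fun s hs h =>
    mem_normalizer_of_map fun a ha => by
      rw [inv_eq_of_mul_eq_one_right hs]; exact conj_mem_oddPart hP hs h ha
  have htN : t ∈ N := hnorm t htt (Or.inl (hyv.left ht))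
  have hvN : v ∈ N := hnorm v hyv.sq (Or.inr hyv.inv)
  set O := {z : G // ∃ n ∈ N, n * y * n⁻¹ = z} with hO
  have hsub : ∀ n ∈ N, n * y * n⁻¹ ∈ P := fun n hn => (mem_normalizer_iff.1 hn y).1 hyP
  -- six elements fused to `y`
  have hfus : ∀ a ∈ P, ∀ s : G, s * s = 1 → s ≠ 1 → orderOf a = 3 → s * a = a * s →
      ∃ n ∈ N, n * y * n⁻¹ = a := by
    intro a ha s hs hs1 ha3 hsa
    obtain ⟨g, hg⟩ := isConj_iff.1 (isConj_three ht e htt (t_ne_one ht) hyv.order hyv.comm hs hs1 ha3 hsa)
    obtain ⟨n, hn, he⟩ := Q.conj_eq_normalizer_conj_of_mem y g⁻¹ (show y ∈ (Q : Subgroup G) by rw [hQP]; exact hyP)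
      (show g⁻¹⁻¹ * y * g⁻¹ ∈ (Q : Subgroup G) by rw [inv_inv, hg, hQP]; exact ha)
    rw [inv_inv, hg] at he
    rw [show ((Q : Set G)) = (P : Set G) from congrArg SetLike.coe hQP] at hn
    exact ⟨n⁻¹, N.inv_mem hn, by rw [inv_inv, ← he]⟩
  have hinvmem : ∀ a, (∃ n ∈ N, n * y * n⁻¹ = a) → ∃ n ∈ N, n * y * n⁻¹ = a⁻¹ := by
    rintro a ⟨n, hn, rfl⟩
    refine ⟨n * v, N.mul_mem hn hvN, ?_⟩
    rw [mul_inv_rev, inv_eq_of_mul_eq_one_right hyv.sq, show n * v * y * (v * n⁻¹) = n * (v * y * v) * n⁻¹ by group,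
      hyv.inv]
    group
  set S : Finset G := {y, y⁻¹, w, w⁻¹, x, x⁻¹} with hS
  have hy0 : ∀ {a : G}, orderOf a = 3 → a ≠ a⁻¹ := fun {a} ha h => by
    have := eq_one_of_sq_three h (by rw [ha]; decide)
    rw [this, orderOf_one] at ha; norm_num at ha
  have hvtx : v * x * v = x⁻¹ := by
    have h1 : t * v * x * (t * v) = x := by rw [hxv, mul_assoc, hsw.sq, mul_one]
    calc v * x * v = (t * t) * v * x * v * (t * t) := by rw [htt, one_mul, mul_one]
      _ = t * (t * v * x * (v * t)) * t := by group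
      _ = t * (t * v * x * (t * v)) * t := by rw [hyv.vt]
      _ = x⁻¹ := by rw [h1, htx]
  have hwfix : v * w * v = w := by rw [hwv, mul_assoc, hyv.sq, mul_one]
  have hScard : S.card = 6 := by
    have hty : t * y * t = y := hyv.left ht
    have htyi : t * y⁻¹ * t = y⁻¹ := by
      have := congrArg (·⁻¹) hty
      simp only [mul_inv_rev, inv_eq_of_mul_eq_one_right htt] at this
      rwa [← mul_assoc] at this
    have hinv : ∀ {s a : G}, s * s = 1 → s * a * s = a⁻¹ → s * a⁻¹ * s = a := by
      intro s a hs h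
      have := congrArg (·⁻¹) h
      simp only [mul_inv_rev, inv_eq_of_mul_eq_one_right hs, inv_inv] at this
      rwa [← mul_assoc] at this
    have hfix : ∀ {s a : G}, s * s = 1 → s * a * s = a → s * a⁻¹ * s = a⁻¹ := by
      intro s a hs h
      have := congrArg (·⁻¹) h
      simp only [mul_inv_rev, inv_eq_of_mul_eq_one_right hs] at this
      rwa [← mul_assoc] at this
    have ne1 : ∀ {a b : G}, orderOf a = 3 → t * a * t = a → t * b * t = b⁻¹ → a ≠ b := by
      intro a b ha h1 h2 he
      subst he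
      exact hy0 ha (h1.symm.trans h2)
    have ne2 : ∀ {a b : G}, orderOf a = 3 → v * a * v = a → v * b * v = b⁻¹ → a ≠ b := by
      intro a b ha h1 h2 he
      subst he
      exact hy0 ha (h1.symm.trans h2)
    have hy3' : orderOf y⁻¹ = 3 := by rw [orderOf_inv, hyv.order]
    have hw3' : orderOf w⁻¹ = 3 := by rw [orderOf_inv, hw3]
    have htw' : t * w⁻¹ * t = w⁻¹⁻¹ := by rw [hinv htt htw, inv_inv]
    have htx' : t * x⁻¹ * t = x⁻¹⁻¹ := by rw [hinv htt htx, inv_inv]
    have hvx' : v * x⁻¹ * v = x⁻¹⁻¹ := by rw [hinv hyv.sq hvtx, inv_inv]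
    have a1 := ne1 hyv.order hty htw
    have a2 := ne1 hyv.order hty htw'
    have a3 := ne1 hyv.order hty htx
    have a4 := ne1 hyv.order hty htx'
    have a5 := ne1 hy3' htyi htw
    have a6 := ne1 hy3' htyi htw'
    have a7 := ne1 hy3' htyi htx
    have a8 := ne1 hy3' htyi htx'
    have a9 := ne2 hw3 hwfix hvtx
    have a10 := ne2 hw3 hwfix hvx'
    have a11 := ne2 hw3' (hfix hyv.sq hwfix) hvtx
    have a12 := ne2 hw3' (hfix hyv.sq hwfix) hvx'
    have a13 := hy0 hyv.order
    have a14 := hy0 hw3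
    have a15 := hy0 hx3
    rw [hS]
    repeat rw [Finset.card_insert_of_notMem]
    all_goals simp [*]
  have hSO : ∀ a ∈ S, ∃ n ∈ N, n * y * n⁻¹ = a := by
    have hy' : ∃ n ∈ N, n * y * n⁻¹ = y := ⟨1, N.one_mem, by group⟩
    have hw' := hfus w hwP v hyv.sq hyv.ne_one hw3 hwv
    have hx' := hfus x hxP (t * v) hsw.sq hsw.ne_one hx3 hxv
    intro a ha
    simp only [hS, Finset.mem_insert, Finset.mem_singleton] at ha
    rcases ha with rfl | rfl | rfl | rfl | rfl | rfl
    exacts [hy', hinvmem _ hy', hw', hinvmem _ hw', hx', hinvmem _ hx']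
  haveI := Fintype.ofFinite O
  let T : Finset G := (Finset.univ : Finset O).image Subtype.val
  have hT : ∀ a, a ∈ T ↔ ∃ n ∈ N, n * y * n⁻¹ = a := fun a =>
    ⟨fun h => by obtain ⟨⟨b, hb⟩, -, rfl⟩ := Finset.mem_image.1 h; exact hb,
      fun h => Finset.mem_image.2 ⟨⟨a, h⟩, Finset.mem_univ _, rfl⟩⟩
  have hTc : T.card = Nat.card O := by
    rw [Finset.card_image_of_injective _ Subtype.val_injective, Finset.card_univ, Nat.card_eq_fintype_card]
  have hST : S ⊆ T := fun a ha => (hT a).2 (hSO a ha)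
  have h6 : 6 ≤ Nat.card O := hTc ▸ hScard ▸ Finset.card_le_card hST
  -- the orbit has length eight
  have hC : centralizer ({y} : Set G) ≤ N := fun g hg => mem_normalizer_of_map fun a ha => by
    obtain ⟨hc, ho⟩ := (hP a).1 ha
    have hgc := mem_centralizer_iff_commute.1 hg
    refine (hP _).2 ⟨?_, ?_⟩
    · exact ((show Commute g y from hgc).mul_left hc).mul_left (show Commute g⁻¹ y from Commute.inv_left hgc)
    · rwa [show g * a * g⁻¹ = MulAut.conj g a from rfl, MulEquiv.orderOf_eq]
  have h54 := card_cent ht e hG hyv.order hyv.comm hyv.sq hyv.ne_one hyv.vt hyv.ne hyv.inv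
  have horb : Nat.card O * 54 = Nat.card N := by
    have := card_conjSet N y
    rw [inf_eq_right.2 hC, h54] at this
    exact this
  obtain ⟨k1, k3, -⟩ := SmallSimple.card_sylow_facts (p := 3) (nc ht e hG) (by rw [hG]; norm_num)
  have hidx : Nat.card (Sylow 3 G) = N.index := by
    rw [SmallSimple.card_sylow_eq_index Q, hQP]
  have hmul := N.card_mul_index
  rw [← hidx, hG] at hmul
  have h8 : Nat.card O = 8 := by
    have h1 : Nat.card O * (54 * Nat.card (Sylow 3 G)) = 5616 := by rw [← mul_assoc, horb, hmul]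
    have h2 : Nat.card (Sylow 3 G) ∈ Nat.divisors 104 :=
      Nat.mem_divisors.2 ⟨Dvd.intro_left (Nat.card O) (by linarith), by norm_num⟩
    have key : ∀ k ∈ Nat.divisors 104, 1 < k → k % 3 = 1 → k = 4 ∨ k = 13 ∨ k = 52 := by decide
    have hne4 : Nat.card (Sylow 3 G) ≠ 4 := by
      intro h4
      have hNne : N ≠ ⊤ := fun h => by rw [h, index_top] at hidx; omega
      have := SmallSimple.two_mul_card_dvd_factorial (nc ht e hG) N hNne
      rw [← hidx, h4, hG] at this
      norm_num [Nat.factorial] at this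
    rcases key _ h2 k1 k3 with h | h | h
    · exact absurd h hne4
    · rw [h] at h1; omega
    · rw [h] at h1; omega
  -- the remaining two elements
  have hd : (T \ S).card = 2 := by rw [Finset.card_sdiff_of_subset hST, hScard, hTc, h8]
  obtain ⟨a, b, hne, hab'⟩ := Finset.card_eq_two.1 hd
  have ha : a ∈ T ∧ a ∉ S := Finset.mem_sdiff.1 (by rw [hab']; simp)
  have hb : b ∈ T ∧ b ∉ S := Finset.mem_sdiff.1 (by rw [hab']; simp)
  have haP : a ∈ P := by obtain ⟨n, hn, rfl⟩ := (hT a).1 ha.1; exact hsub n hn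
  have ha3 : orderOf a = 3 := by
    obtain ⟨n, -, rfl⟩ := (hT a).1 ha.1
    rw [show n * y * n⁻¹ = MulAut.conj n y from rfl, MulEquiv.orderOf_eq, hyv.order]
  have hnofix : ∀ (s c : G) , s * s = 1 → s ≠ 1 → c ∈ P → orderOf c = 3 → c ∈ S → s * c = c * s →
      c⁻¹ ∈ S → s * a * s ≠ a := by
    intro s c hs hs1 hc hc3 hcS hsc hcS' hfix
    have hle : zpowers c ≤ P ⊓ centralizer ({s} : Set G) :=
      zpowers_le.2 ⟨hc, mem_centralizer_iff_commute.2 hsc.symm⟩
    have heq := eq_of_le_of_card_ge hle (by rw [Nat.card_zpowers, hc3]; exact card_inf_le ht e hP27 hs hs1)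
    have hmem : a ∈ zpowers c := by
      rw [heq]
      refine ⟨haP, mem_centralizer_iff_commute.2 ?_⟩
      calc a * s = s * a * s * s := by rw [hfix]
        _ = s * a := by rw [mul_assoc, hs, mul_one]
    obtain ⟨i, hi, he⟩ := (mem_zpowers_iff_mem_range_orderOf (G := G)).1 hmem |> Finset.mem_image.1
    rw [hc3, Finset.mem_range] at hi
    interval_cases i
    · rw [pow_zero] at he
      rw [← he, orderOf_one] at ha3
      norm_num at ha3
    · rw [pow_one] at he
      exact ha.2 (he ▸ hcS)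
    · have : c ^ 2 = c⁻¹ :=
        eq_inv_of_mul_eq_one_left (by rw [← pow_succ, show 2 + 1 = orderOf c from hc3.symm, pow_orderOf_eq_one])
      rw [this] at he
      exact ha.2 (he ▸ hcS')
  have hperm : ∀ s : G, s * s = 1 → s ∈ N → (∀ c ∈ S, s * c * s ∈ S) → s * a * s ≠ a → s * a * s = b := by
    intro s hs hsN hsS hne'
    have hmem : s * a * s ∈ T \ S := by
      refine Finset.mem_sdiff.2 ⟨?_, fun h => ?_⟩
      · obtain ⟨n, hn, he⟩ := (hT a).1 ha.1
        refine (hT _).2 ⟨s * n, N.mul_mem hsN hn, ?_⟩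
        rw [← he, mul_inv_rev, inv_eq_of_mul_eq_one_right hs]; group
      · have := hsS _ h
        rw [show s * (s * a * s) * s = s * s * a * (s * s) by group, hs, one_mul, mul_one] at this
        exact ha.2 this
    rw [hab', Finset.mem_insert, Finset.mem_singleton] at hmem
    exact hmem.resolve_left hne'
  have hclosed : ∀ s : G, s * s = 1 → (s * y * s = y ∨ s * y * s = y⁻¹) → (s * w * s = w ∨ s * w * s = w⁻¹) →
      (s * x * s = x ∨ s * x * s = x⁻¹) → ∀ c ∈ S, s * c * s ∈ S := by
    intro s hs h1 h2 h3 c hc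
    have hinv : ∀ {a : G}, s * a⁻¹ * s = (s * a * s)⁻¹ := fun {a} => by
      rw [mul_inv_rev, mul_inv_rev, inv_eq_of_mul_eq_one_right hs, mul_assoc]
    simp only [hS, Finset.mem_insert, Finset.mem_singleton] at hc ⊢
    rcases hc with rfl | rfl | rfl | rfl | rfl | rfl
    · rcases h1 with h | h <;> simp [h]
    · rcases h1 with h | h <;> simp [hinv, h]
    · rcases h2 with h | h <;> simp [h]
    · rcases h2 with h | h <;> simp [hinv, h]
    · rcases h3 with h | h <;> simp [h]
    · rcases h3 with h | h <;> simp [hinv, h]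
  have hyS : y ∈ S ∧ y⁻¹ ∈ S := by simp [hS]
  have hwS : w ∈ S ∧ w⁻¹ ∈ S := by simp [hS]
  have hxS : x ∈ S ∧ x⁻¹ ∈ S := by simp [hS]
  have e1 := hperm t htt htN (hclosed t htt (Or.inl (hyv.left ht)) (Or.inr htw) (Or.inr htx))
    (hnofix t y htt (t_ne_one ht) hyP hyv.order hyS.1 hyv.comm hyS.2)
  have e2 := hperm v hyv.sq hvN (hclosed v hyv.sq (Or.inr hyv.inv) (Or.inl hwfix) (Or.inr hvtx))
    (hnofix v w hyv.sq hyv.ne_one hwP hw3 hwS.1 hwv hwS.2)
  refine hnofix (t * v) x hsw.sq hsw.ne_one hxP hx3 hxS.1 hxv hxS.2 ?_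
  calc t * v * a * (t * v) = t * (v * a * (t * v)) := by group
    _ = t * (v * a * (v * t)) := by rw [hyv.vt]
    _ = t * (v * a * v) * t := by group
    _ = t * (t * a * t) * t := by rw [e2, ← e1]
    _ = t * t * a * (t * t) := by group
    _ = a := by rw [htt, one_mul, mul_one]

include ht e hG in
/-- The subgroup of order nine through `y` centralised by `v`. -/
theorem exists_good {y v : G} (hyv : InvPair t y v) :
    ∃ E : Subgroup G, NineGood y E ∧ (∀ a ∈ E, t * v * a * (t * v) = a⁻¹) ∧
      ∃ w ∈ E, w ≠ 1 ∧ v * w = w * v := by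
  classical
  haveI : Fact (Nat.Prime 3) := ⟨Nat.prime_three⟩
  have htt := t_mul_t ht
  have hvv := hyv.sq
  have hti : t⁻¹ = t := inv_eq_of_mul_eq_one_right htt
  have hvi : v⁻¹ = v := inv_eq_of_mul_eq_one_right hvv
  have h54 := card_cent ht e hG hyv.order hyv.comm hyv.sq hyv.ne_one hyv.vt hyv.ne hyv.inv
  obtain ⟨P, hP, hCP, -, hyP⟩ := exists_oddPart ht e hG hyv.order htt (t_ne_one ht) hyv.comm
  have hP27 : Nat.card P = 27 := by omega
  obtain ⟨w, hwP, hw3, hwv, htw⟩ := exists_fix ht e hyv hP hP27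
  have hw1 : w ≠ 1 := fun h => by rw [h, orderOf_one] at hw3; norm_num at hw3
  set E := closure ({y, w} : Set G) with hE
  have hyE : y ∈ E := subset_closure (by simp)
  have hwE : w ∈ E := subset_closure (by simp)
  have hEP : E ≤ P := (closure_le _).2 (by rintro _ (rfl | rfl) <;> assumption)
  have hwy : w * y = y * w := ((hP w).1 hwP).1
  have hcy : E ≤ centralizer ({y} : Set G) :=
    (closure_le _).2 (by rintro _ (rfl | rfl) <;> simp [mem_centralizer_iff_commute, hwy])
  have hcw : E ≤ centralizer ({w} : Set G) :=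
    (closure_le _).2 (by rintro _ (rfl | rfl) <;> simp [mem_centralizer_iff_commute, hwy])
  have hcomm : ∀ a ∈ E, ∀ b ∈ E, a * b = b * a := by
    intro a ha b hb
    have hle : E ≤ centralizer ({a} : Set G) := (closure_le _).2 (by
      rintro _ (rfl | rfl)
      · exact mem_centralizer_iff_commute.2 (mem_centralizer_iff_commute.1 (hcy ha)).symm
      · exact mem_centralizer_iff_commute.2 (mem_centralizer_iff_commute.1 (hcw ha)).symm)
    exact (mem_centralizer_iff_commute.1 (hle hb)).symm
  have hwz : w ∉ zpowers y := by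
    rintro ⟨j, hj⟩
    have hfix : t * w * t = w := by
      rw [← hj, show t * y ^ j = y ^ j * t from ((show Commute t y from hyv.comm).zpow_right j).eq, mul_assoc, htt,
        mul_one]
    exact hw1 (eq_one_of_sq_three (hfix.symm.trans htw) (by rw [hw3]; decide))
  have hE9 : Nat.card E = 9 := by
    have hd : Nat.card E ∈ Nat.divisors 27 := Nat.mem_divisors.2 ⟨hP27 ▸ card_dvd_of_le hEP, by norm_num⟩
    have key : ∀ k ∈ Nat.divisors 27, k = 9 ∨ k = 27 ∨ k ≤ 3 := by decide
    rcases key _ hd with h | h | h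
    · exact h
    · exfalso
      have hEq : E = P := eq_of_le_of_card_ge hEP (by omega)
      exact not_comm ht e hG hyv hP hP27 (hEq ▸ hcomm)
    · exfalso
      apply hwz
      rw [eq_of_le_of_card_ge (zpowers_le.2 hyE) (by rw [Nat.card_zpowers, hyv.order]; exact h)]
      exact hwE
  set K := normalizer (E : Set G) with hK
  have hgen : ∀ s : G, s * y * s⁻¹ ∈ E → s * w * s⁻¹ ∈ E → s ∈ K := fun s h1 h2 =>
    mem_normalizer_of_map fun a ha =>
      (closure_le (K := E.comap (MulAut.conj s).toMonoidHom)).2 (by rintro _ (rfl | rfl) <;> assumption) ha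
  have htK : t ∈ K := hgen t (by rw [hti, hyv.left ht]; exact hyE) (by rw [hti, htw]; exact inv_mem hwE)
  have hvK : v ∈ K := hgen v (by rw [hvi, hyv.inv]; exact inv_mem hyE)
    (by rw [hvi, hwv, mul_assoc, hvv, mul_one]; exact hwE)
  have hPK : ∀ Q : Subgroup G, Nat.card Q = 27 → E ≤ Q → Q ≤ K := by
    intro Q hQ hle
    refine ((normal_subgroupOf_iff_le_normalizer hle).1 ?_)
    have hidx : (E.subgroupOf Q).index = 3 := by
      have h := (E.subgroupOf Q).card_mul_index
      rw [Nat.card_congr (subgroupOfEquivOfLe hle).toEquiv, hE9, hQ] at h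
      omega
    exact normal_of_index_eq_minFac_card (by rw [hidx, hQ]; norm_num)
  have hPK' := hPK P hP27 hEP
  -- the centraliser of `y` normalises `E`
  have hcent : centralizer ({y} : Set G) ≤ K := by
    set M := centralizer ({y} : Set G) ⊓ K with hM
    have hPM : P ≤ M := fun g hg => ⟨mem_centralizer_iff_commute.2 ((hP g).1 hg).1, hPK' hg⟩
    have htP : t ∉ P := fun h => by
      have := ((hP t).1 h).2
      rw [ht] at this
      exact absurd this (by decide)
    have hlt : 27 < Nat.card M := by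
      by_contra hle
      push Not at hle
      exact htP (eq_of_le_of_card_ge hPM (hP27 ▸ hle) ▸ ⟨mem_centralizer_iff_commute.2 hyv.comm, htK⟩)
    have hd : Nat.card M ∈ Nat.divisors 54 :=
      Nat.mem_divisors.2 ⟨h54 ▸ card_dvd_of_le inf_le_left, by norm_num⟩
    have key : ∀ k ∈ Nat.divisors 54, 27 < k → k = 54 := by decide
    exact (eq_of_le_of_card_ge (inf_le_left : M ≤ _) (by rw [h54, key _ hd hlt])).ge.trans inf_le_right
  -- a second Sylow subgroup of the normaliser
  have hw54 : Nat.card (centralizer ({w} : Set G)) = 54 :=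
    card_centralizer_conj (isConj_three ht e htt (t_ne_one ht) hyv.order hyv.comm hvv hyv.ne_one hw3 hwv) ▸ h54
  obtain ⟨P2, hP2, hCP2, -, hwP2⟩ := exists_oddPart ht e hG hw3 hvv hyv.ne_one hwv
  have hP227 : Nat.card P2 = 27 := by omega
  have hodd : ∀ a ∈ E, Odd (orderOf a) := fun a ha => by
    have h := orderOf_dvd_natCard (⟨a, ha⟩ : E)
    rw [orderOf_mk, hE9] at h
    exact Odd.of_dvd_nat (by decide) h
  have hEP2 : E ≤ P2 := fun a ha => (hP2 a).2 ⟨hcomm a ha w hwE, hodd a ha⟩
  have hP2K := hPK P2 hP227 hEP2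
  have hne : P2 ≠ P := by
    intro he
    apply not_comm ht e hG hyv hP hP27
    have hzy : ∀ g ∈ P, g * y = y * g := fun g hg => ((hP g).1 hg).1
    have hzw : ∀ g ∈ P, g * w = w * g := fun g hg => ((hP2 g).1 (he ▸ hg)).1
    have hcen : ∀ a ∈ E, ∀ g ∈ P, a * g = g * a := fun a ha g hg =>
      (mem_centralizer_iff_commute.1 ((closure_le (K := centralizer ({g} : Set G))).2 (by
        rintro _ (rfl | rfl)
        · exact mem_centralizer_iff_commute.2 (hzy g hg).symm
        · exact mem_centralizer_iff_commute.2 (hzw g hg).symm) ha))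
    intro a ha b hb
    by_cases haE : a ∈ E
    · exact hcen a haE b hb
    have hle : E ≤ P ⊓ centralizer ({a} : Set G) := fun c hc =>
      ⟨hEP hc, mem_centralizer_iff_commute.2 (hcen c hc a ha)⟩
    have hlt : 9 < Nat.card ↥(P ⊓ centralizer ({a} : Set G)) := by
      by_contra hle'
      push Not at hle'
      exact haE (eq_of_le_of_card_ge hle (hE9 ▸ hle') ▸ ⟨ha, mem_centralizer_iff_commute.2 rfl⟩)
    have key : ∀ k ∈ Nat.divisors 27, 9 < k → k = 27 := by decide
    have h27 := key _ (Nat.mem_divisors.2 ⟨hP27 ▸ card_dvd_of_le (inf_le_left : P ⊓ centralizer ({a} : Set G) ≤ P),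
      by norm_num⟩) hlt
    have hbm : b ∈ P ⊓ centralizer ({a} : Set G) := by
      rw [eq_of_le_of_card_ge (inf_le_left : P ⊓ centralizer ({a} : Set G) ≤ P) (by omega)]
      exact hb
    exact (mem_centralizer_iff_commute.1 hbm.2).symm
  have hK432 : Nat.card K = 432 := by
    have hPsub : Nat.card (P.subgroupOf K) = 27 := by
      rw [Nat.card_congr (subgroupOfEquivOfLe hPK').toEquiv, hP27]
    obtain ⟨S, hS⟩ := (IsPGroup.of_card (n := 3) hPsub : IsPGroup 3 (P.subgroupOf K)).exists_le_sylow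
    have hdK : Nat.card K ∣ 5616 := hG ▸ card_subgroup_dvd_card K
    have hS27 : Nat.card (S : Subgroup K) = 27 := by
      obtain ⟨k, hk⟩ := IsPGroup.iff_card.1 S.isPGroup'
      have h1 : 3 ^ k ∣ 5616 := hk ▸ (card_subgroup_dvd_card _).trans hdK
      have h2 : 27 ≤ 3 ^ k := hk ▸ hPsub ▸ Nat.le_of_dvd Nat.card_pos (card_dvd_of_le hS)
      have hk4 : k ≤ 3 := by
        by_contra hk4
        have := (pow_dvd_pow 3 (show 4 ≤ k by omega)).trans h1
        norm_num at this
      interval_cases k <;> simp_all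
    have hSP : (S : Subgroup K) = P.subgroupOf K := (eq_of_le_of_card_ge hS (by omega)).symm
    set N2 := normalizer ((S : Subgroup K) : Set K) with hN2
    have hnorm : ∀ s : K, (∀ a ∈ P, (s : G) * a * (s : G)⁻¹ ∈ P) → s ∈ N2 := fun s h =>
      mem_normalizer_of_map fun a ha => by
        rw [hSP, mem_subgroupOf] at ha ⊢
        simpa using h _ ha
    have hsub : (centralizer ({y} : Set G)).subgroupOf K ≤ N2 := fun s hs => hnorm s fun a ha => by
      have hgc := mem_centralizer_iff_commute.1 (mem_subgroupOf.1 hs)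
      obtain ⟨hc, ho⟩ := (hP a).1 ha
      refine (hP _).2 ⟨?_, ?_⟩
      · exact ((show Commute (s : G) y from hgc).mul_left hc).mul_left
          (show Commute (s : G)⁻¹ y from Commute.inv_left hgc)
      · rwa [show (s : G) * a * (s : G)⁻¹ = MulAut.conj (s : G) a from rfl, MulEquiv.orderOf_eq]
    have hvN2 : (⟨v, hvK⟩ : K) ∈ N2 := hnorm _ fun a ha => by
      show v * a * v⁻¹ ∈ P
      rw [hvi]; exact conj_mem_oddPart hP hvv (Or.inr hyv.inv) ha
    have hc54 : Nat.card ((centralizer ({y} : Set G)).subgroupOf K) = 54 := by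
      rw [Nat.card_congr (subgroupOfEquivOfLe hcent).toEquiv, h54]
    have h108 : 108 ≤ Nat.card N2 := by
      obtain ⟨m, hm⟩ := hc54 ▸ card_dvd_of_le hsub
      have hm0 : m ≠ 0 := by rintro rfl; rw [mul_zero] at hm; exact Nat.card_pos.ne' hm
      have hm1 : m ≠ 1 := by
        rintro rfl
        have heq := eq_of_le_of_card_ge hsub (by omega)
        have hvc : v * y = y * v := mem_centralizer_iff_commute.1 (mem_subgroupOf.1 (heq.symm ▸ hvN2))
        have h' : v * y * v = y := by rw [hvc, mul_assoc, hvv, mul_one]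
        rw [hyv.inv] at h'
        have := eq_one_of_sq_three h'.symm (by rw [hyv.order]; decide)
        have := hyv.order
        rw [‹y = 1›, orderOf_one] at this
        norm_num at this
      omega
    have hn3 := card_sylow_modEq_one 3 K
    have hidx : Nat.card (Sylow 3 K) = N2.index := SmallSimple.card_sylow_eq_index S
    have hne1 : Nat.card (Sylow 3 K) ≠ 1 := by
      intro h1
      haveI := (Nat.card_eq_one_iff_unique.1 h1).1
      have h2 : Nat.card (P2.subgroupOf K) = 27 := by
        rw [Nat.card_congr (subgroupOfEquivOfLe hP2K).toEquiv, hP227]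
      obtain ⟨S2, hS2⟩ := (IsPGroup.of_card (n := 3) h2 : IsPGroup 3 (P2.subgroupOf K)).exists_le_sylow
      rw [Subsingleton.elim S2 S, hSP] at hS2
      refine hne (eq_of_le_of_card_ge (fun g hg => ?_) (by omega))
      exact mem_subgroupOf.1 (hS2 (show (⟨g, hP2K hg⟩ : K) ∈ P2.subgroupOf K from hg))
    have h4 : 4 ≤ Nat.card (Sylow 3 K) := by
      have : Nat.card (Sylow 3 K) % 3 = 1 := hn3
      omega
    have hge : 432 ≤ Nat.card K := by
      rw [← N2.card_mul_index, ← hidx]
      exact le_trans (by norm_num) (Nat.mul_le_mul h108 h4)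
    have hKne : K ≠ ⊤ := fun h => by
      rcases (IsSimpleGroup.eq_bot_or_eq_top_of_normal E (normalizer_eq_top_iff.1 h)) with h' | h'
      · rw [h', card_bot] at hE9; norm_num at hE9
      · rw [h', card_top, hG] at hE9; norm_num at hE9
    have hfac := SmallSimple.two_mul_card_dvd_factorial (nc ht e hG) K hKne
    rw [hG] at hfac
    have hi : 13 ≤ K.index := by
      by_contra hlt
      have h13 : (13 : ℕ) ∣ K.index.factorial := (show 13 ∣ 2 * 5616 by norm_num).trans hfac
      have := (Nat.Prime.dvd_factorial (by norm_num)).1 h13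
      omega
    have hmul := K.card_mul_index
    rw [hG] at hmul
    nlinarith
  have hindex : K.index = 13 := by
    have hmul := K.card_mul_index
    rw [hG, hK432] at hmul
    omega
  refine ⟨E, ⟨hE9, hcomm, hyE, fun z hz hz1 => ?_, hcent, hindex⟩, ?_, w, hwE, hw1, hwv⟩
  · haveI := Fintype.ofFinite E
    haveI := Fintype.ofFinite {z : G // ∃ n ∈ K, n * y * n⁻¹ = z}
    have horb : Nat.card {z : G // ∃ n ∈ K, n * y * n⁻¹ = z} = 8 := by
      have h := card_conjSet K y
      rw [inf_eq_right.2 hcent, h54, hK432] at h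
      omega
    by_contra hnone
    let f : {z : G // ∃ n ∈ K, n * y * n⁻¹ = z} → {a : E // a ≠ 1 ∧ (a : G) ≠ z} := fun q => ⟨⟨q.1, by
        obtain ⟨n, hn, he⟩ := q.2
        rw [← he]
        exact (mem_normalizer_iff.1 hn y).1 hyE⟩, fun h => by
        obtain ⟨n, hn, he⟩ := q.2
        have h' : q.1 = 1 := congrArg Subtype.val h
        rw [h', conj_eq_one_iff] at he
        have := hyv.order
        rw [he, orderOf_one] at this
        norm_num at this, fun h => hnone (by
        obtain ⟨n, hn, he⟩ := q.2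
        exact ⟨n, hn, he.trans h⟩)⟩
    have hle := Nat.card_le_card_of_injective f fun a b h =>
      Subtype.ext (congrArg (fun r : {a : E // a ≠ 1 ∧ (a : G) ≠ z} => (r.1 : G)) h)
    have hzE : (⟨z, hz⟩ : E) ≠ 1 := fun h => hz1 (congrArg Subtype.val h)
    have : Nat.card {a : E // a ≠ 1 ∧ (a : G) ≠ z} = 7 := by
      rw [Nat.card_eq_fintype_card, Fintype.card_subtype]
      have hset : (Finset.univ.filter fun a : E => a ≠ 1 ∧ (a : G) ≠ z) = ({1, ⟨z, hz⟩} : Finset E)ᶜ := by
        ext a
        simp only [Finset.mem_filter, Finset.mem_univ, true_and, Finset.mem_compl, Finset.mem_insert,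
          Finset.mem_singleton, not_or]
        exact and_congr_right fun _ => ⟨fun h e => h (congrArg Subtype.val e), fun h e => h (Subtype.ext e)⟩
      rw [hset, Finset.card_compl, Finset.card_pair hzE.symm, ← Nat.card_eq_fintype_card, hE9]
    omega
  · intro a ha
    have hsw := hyv.swap ht
    have hset : ∀ b : G, b = y ∨ b = w → t * v * b * (t * v) = b⁻¹ := by
      rintro b (rfl | rfl)
      · exact hsw.inv
      · calc t * v * b * (t * v) = t * (v * b * (t * v)) := by group
          _ = t * (v * b * (v * t)) := by rw [hyv.vt]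
          _ = t * (v * b * v) * t := by group
          _ = b⁻¹ := by rw [hwv, mul_assoc b, hvv, mul_one, htw]
    let σ := MulAut.conj (t * v)
    have hσ : ∀ b, σ b = t * v * b * (t * v) := fun b => by
      show t * v * b * (t * v)⁻¹ = _
      rw [inv_eq_of_mul_eq_one_right hsw.sq]
    rw [hE] at ha
    induction ha using closure_induction with
    | mem b hb => exact hset b (by simpa using hb)
    | one => rw [mul_one, hsw.sq, inv_one]
    | mul b c hb hc ihb ihc =>
      rw [← hσ, map_mul, hσ, hσ, ihb, ihc, ← mul_inv_rev]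
      exact congrArg (·⁻¹) (hcomm _ (hE ▸ hc) _ (hE ▸ hb))
    | inv b hb ihb => rw [← hσ, map_inv, hσ, ihb]

include ht e hG in
/-- The two subgroups of order nine through `y`. -/
theorem exists_two_good {y v : G} (hyv : InvPair t y v) :
    ∃ E E' : Subgroup G, NineGood y E ∧ NineGood y E' ∧ E ≠ E' := by
  obtain ⟨E, hE, hinv, -⟩ := exists_good ht e hG hyv
  obtain ⟨E', hE', -, x, hxE, hx1, hxv⟩ := exists_good ht e hG (hyv.swap ht)
  refine ⟨E, E', hE, hE', fun h => hx1 ?_⟩
  have h1 := hinv x (h.symm ▸ hxE)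
  rw [hxv, mul_assoc, (hyv.swap ht).sq, mul_one] at h1
  refine eq_one_of_sq_three h1 ?_
  have hd := orderOf_dvd_natCard (⟨x, hxE⟩ : E')
  rw [orderOf_mk, hE'.card] at hd
  exact Odd.of_dvd_nat (by decide) hd

theorem exists_pair_quad : ∃ a b : Quad, qdet a ≠ 0 ∧ qdet b ≠ 0 ∧ q3 a = true ∧ qmul b b = qone ∧ b ≠ qone ∧
    b ≠ qneg ∧ qmul (qmul b a) b = qmul a a :=
  ⟨(1, 1, 0, 1), (1, 0, 0, -1), by decide +kernel⟩

include ht e in
theorem exists_invPair : ∃ y v : G, InvPair t y v := by
  haveI : Fact (Nat.Prime 3) := ⟨Nat.prime_three⟩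
  obtain ⟨a, b, hda, hdb, ha, hbb, hb1, hbn, hba⟩ := exists_pair_quad
  obtain ⟨A, hA⟩ := quadEquiv.surjective ⟨a, hda⟩
  obtain ⟨B, hB⟩ := quadEquiv.surjective ⟨b, hdb⟩
  have hA' : toQuad A = a := congrArg Subtype.val hA
  have hB' : toQuad B = b := congrArg Subtype.val hB
  simp only [q3, Bool.and_eq_true, beq_iff_eq, bne_iff_ne] at ha
  have hA3 : A ^ 3 = 1 := by
    rw [pow_three, ← mul_assoc, toQuad_eq_one, toQuad_mul, toQuad_mul, hA']
    exact ha.1
  have hA1 : A ≠ 1 := fun h => ha.2 (by rw [← hA', h, toQuad_one])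
  have hz : toQuad (e (tC t)) = qneg := by rw [e_tC ht e, toQuad_zz]
  refine ⟨(e.symm A : G), (e.symm B : G), ?_, ?_, ?_, ?_, ?_, ?_, ?_⟩
  · rw [Subgroup.orderOf_coe, MulEquiv.orderOf_eq]
    exact orderOf_eq_prime hA3 hA1
  · exact (mem_centralizer_iff_commute.1 (e.symm A).2).symm
  · rw [← Subgroup.coe_mul, ← map_mul, show B * B = 1 from toQuad_injective (by rw [toQuad_mul, hB', hbb, toQuad_one]),
      map_one, Subgroup.coe_one]
  · intro h
    apply hb1
    rw [← hB', show B = 1 from e.symm.injective (Subtype.ext (by rw [h, map_one, Subgroup.coe_one])), toQuad_one]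
  · exact mem_centralizer_iff_commute.1 (e.symm B).2
  · intro h
    apply hbn
    rw [← hB', show B = e (tC t) from e.symm.injective (Subtype.ext (by rw [h, MulEquiv.symm_apply_apply]; rfl)), hz]
  · rw [← Subgroup.coe_mul, ← Subgroup.coe_mul, ← map_mul, ← map_mul, ← Subgroup.coe_inv, ← map_inv]
    congr 2
    have hAA : A⁻¹ = A * A := inv_eq_of_mul_eq_one_right (by rw [← pow_three, hA3])
    rw [hAA]
    apply toQuad_injective
    rw [toQuad_mul, toQuad_mul, toQuad_mul, hA', hB', hba]

end Cfsg.Agent.Lib.GLTwoThree
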