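import Cfsg.Agent.Lib.GLTwoThree.Pairs
import Cfsg.Agent.Lib.Perm.TwoModFour
import Cfsg.Agent.Lib.FPFOrderFour.Basic
import Cfsg.Agent.Lib.SmallSimple.Order459648

/-!
# The centraliser of an element of order three centralising an involution, at order 5616
-/

set_option autoImplicit false
set_option linter.unusedSectionVars false
set_option linter.style.haveILetI false
set_option synthInstance.maxSize 1024

namespace Cfsg.Agent.Lib.GLTwoThree

open Cfsg Subgroup

universe u

variable {G : Type u} [Group G] [Finite G] [IsSimpleGroup G] {t : G}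
  (ht : orderOf t = 2) (e : centralizer ({t} : Set G) ≃* GL23) (hG : Nat.card G = 5616)

theorem mem_centralizer_iff_commute {G : Type u} [Group G] {g x : G} :
    g ∈ centralizer ({x} : Set G) ↔ g * x = x * g :=
  mem_centralizer_singleton_iff

/-- Centralisers of conjugate elements. -/
def centConj {G : Type u} [Group G] (g x : G) :
    centralizer ({x} : Set G) ≃* centralizer ({g * x * g⁻¹} : Set G) where
  toFun c := ⟨g * c.1 * g⁻¹, mem_centralizer_iff_commute.2 (by
    have h := mem_centralizer_iff_commute.1 c.2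
    calc g * c.1 * g⁻¹ * (g * x * g⁻¹) = g * (c.1 * x) * g⁻¹ := by group
      _ = g * x * g⁻¹ * (g * c.1 * g⁻¹) := by rw [h]; group)⟩
  invFun c := ⟨g⁻¹ * c.1 * g, mem_centralizer_iff_commute.2 (by
    have h := mem_centralizer_iff_commute.1 c.2
    calc g⁻¹ * c.1 * g * x = g⁻¹ * (c.1 * (g * x * g⁻¹)) * g := by group
      _ = x * (g⁻¹ * c.1 * g) := by rw [h]; group)⟩
  left_inv c := Subtype.ext (by simp [mul_assoc])
  right_inv c := Subtype.ext (by simp [mul_assoc])
  map_mul' a b := Subtype.ext (by simp [mul_assoc])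

include ht e in
theorem nonempty_iso {x : G} (hx : x * x = 1) (hx1 : x ≠ 1) :
    Nonempty (centralizer ({x} : Set G) ≃* GL23) := by
  obtain ⟨g, hg⟩ := isConj_iff.1 (isConj_involution ht e hx hx1)
  subst hg
  exact ⟨(centConj g x).trans e⟩

theorem orderOf_three_gl {g : GL23} (h3 : g ^ 3 = 1) (h1 : g ≠ 1) : q3 (toQuad g) = true := by
  simp only [q3, Bool.and_eq_true, beq_iff_eq, bne_iff_ne, ← toQuad_mul, Ne, ← toQuad_eq_one]
  exact ⟨by rw [← h3]; simp [pow_three, mul_assoc], h1⟩

def cntC (v : Quad) : ℕ :=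
  (Finset.univ.filter fun w : Inv4 => qmul w.1 v = qmul v w.1).card

theorem cntC_three : ∀ v : Quad, qdet v ≠ 0 → q3 v = true → cntC v = 6 := by decide +kernel

theorem conj_three : ∀ v : Quad, qdet v ≠ 0 → q3 v = true → ∀ w : Quad, qdet w ≠ 0 → q3 w = true →
    ∃ k : Inv4, qmul k.1 v = qmul w k.1 := by decide +kernel

include ht e in
/-- An element of order three and an involution commuting with it have six common commuting elements. -/
theorem card_common {x y : G} (hx : x * x = 1) (hx1 : x ≠ 1) (hy : orderOf y = 3) (hxy : x * y = y * x) :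
    Nat.card ↥(centralizer ({x} : Set G) ⊓ centralizer ({y} : Set G)) = 6 := by
  obtain ⟨f⟩ := nonempty_iso ht e hx hx1
  set yC : centralizer ({x} : Set G) := ⟨y, mem_centralizer_iff_commute.2 hxy.symm⟩ with hyC
  have h3 : (f yC) ^ 3 = 1 := by
    rw [← map_pow, ← map_one f]
    refine congrArg f (Subtype.ext ?_)
    rw [SubmonoidClass.coe_pow, Subgroup.coe_one, ← hy, pow_orderOf_eq_one]
  have h1 : f yC ≠ 1 := by
    intro h
    rw [← map_one f] at h
    have := congrArg Subtype.val (f.injective h)
    simp only [hyC, Subgroup.coe_one] at this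
    rw [this, orderOf_one] at hy
    norm_num at hy
  have hc := cntC_three _ (qdet_toQuad _) (orderOf_three_gl h3 h1)
  rw [cntC, ← natCard_gl (fun w => qmul w (toQuad (f yC)) = qmul (toQuad (f yC)) w)] at hc
  rw [← hc]
  refine Nat.card_congr
    { toFun := fun c => ⟨f ⟨c.1, c.2.1⟩, by
        rw [← toQuad_mul, ← toQuad_mul, ← map_mul, ← map_mul]
        exact congrArg (fun z => toQuad (f z)) (Subtype.ext (mem_centralizer_iff_commute.1 c.2.2))⟩
      invFun := fun w => ⟨(f.symm w.1 : G), (f.symm w.1).2, mem_centralizer_iff_commute.2 (by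
        have h := congrArg f.symm (toQuad_injective (by rw [toQuad_mul, toQuad_mul]; exact w.2) :
          w.1 * f yC = f yC * w.1)
        simp only [map_mul, MulEquiv.symm_apply_apply] at h
        exact congrArg Subtype.val h)⟩
      left_inv := fun c => by simp
      right_inv := fun w => by simp }

include ht e in
/-- Elements of order three centralising involutions are conjugate. -/
theorem isConj_three {x x' y y' : G} (hx : x * x = 1) (hx1 : x ≠ 1) (hy : orderOf y = 3) (hxy : x * y = y * x)
    (hx' : x' * x' = 1) (hx1' : x' ≠ 1) (hy' : orderOf y' = 3) (hxy' : x' * y' = y' * x') : IsConj y y' := by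
  have key : ∀ {x y : G}, x * x = 1 → x ≠ 1 → orderOf y = 3 → x * y = y * x →
      ∃ w : centralizer ({t} : Set G), IsConj y (w : G) ∧ q3 (toQuad (e w)) = true := by
    intro x y hx hx1 hy hxy
    obtain ⟨g, hg⟩ := isConj_iff.1 (isConj_involution ht e hx hx1)
    subst hg
    refine ⟨⟨g * y * g⁻¹, mem_centralizer_iff_commute.2 ?_⟩, isConj_iff.2 ⟨g, rfl⟩, orderOf_three_gl ?_ ?_⟩
    · calc g * y * g⁻¹ * (g * x * g⁻¹) = g * (y * x) * g⁻¹ := by group
        _ = g * x * g⁻¹ * (g * y * g⁻¹) := by rw [← hxy]; group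
    · rw [← map_pow, ← map_one e]
      refine congrArg e (Subtype.ext ?_)
      rw [SubmonoidClass.coe_pow, Subgroup.coe_one, conj_pow, ← hy, pow_orderOf_eq_one]
      group
    · intro h
      rw [← map_one e] at h
      have h' := congrArg Subtype.val (e.injective h)
      simp only [Subgroup.coe_one, conj_eq_one_iff] at h'
      rw [h', orderOf_one] at hy
      norm_num at hy
  obtain ⟨w, hw, hqw⟩ := key hx hx1 hy hxy
  obtain ⟨w', hw', hqw'⟩ := key hx' hx1' hy' hxy'
  obtain ⟨k, hk⟩ := conj_three _ (qdet_toQuad _) hqw _ (qdet_toQuad _) hqw'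
  obtain ⟨k', hk'⟩ := quadEquiv.surjective k
  have hk'' : k' * e w = e w' * k' := toQuad_injective (by
    rw [toQuad_mul, toQuad_mul, show toQuad k' = k.1 from congrArg Subtype.val hk']; exact hk)
  have h := congrArg e.symm hk''
  simp only [map_mul, MulEquiv.symm_apply_apply] at h
  refine hw.trans (IsConj.trans (isConj_iff.2 ⟨(e.symm k' : G), ?_⟩) hw'.symm)
  have h' : (e.symm k' : G) * (w : G) = (w' : G) * (e.symm k' : G) := congrArg Subtype.val h
  rw [h', mul_inv_cancel_right]

include ht e hG in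
theorem nc : ¬ IsMulCommutative G := fun h => by
  obtain ⟨a, b, hab⟩ := exists_noncomm ht e
  exact hab (h.is_comm.comm a b)

include ht e hG in
theorem not_thirteen {x y : G} (hy : orderOf y = 3) (hx : x * x = 1) (hx1 : x ≠ 1) (hxy : x * y = y * x) :
    ¬ 13 ∣ Nat.card (centralizer ({y} : Set G)) := by
  intro h13
  haveI : Fact (Nat.Prime 13) := ⟨by norm_num⟩
  haveI : Fact (Nat.Prime 3) := ⟨Nat.prime_three⟩
  obtain ⟨z, hz⟩ := exists_prime_orderOf_dvd_card' 13 h13
  have hz' : orderOf (z : G) = 13 := by rw [Subgroup.orderOf_coe]; exact hz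
  obtain ⟨P, hP⟩ := (IsPGroup.of_card (n := 1) (by rw [Nat.card_zpowers, hz', pow_one]) :
    IsPGroup 13 (zpowers (z : G))).exists_le_sylow
  have hPc : Nat.card (P : Subgroup G) = 13 :=
    (SmallSimple.card_sylow_subgroup P (k := 1) (m := 432) (by rw [hG]; norm_num) (by norm_num)).trans (pow_one _)
  have hPz : zpowers (z : G) = (P : Subgroup G) := eq_of_le_of_card_ge hP (by rw [hPc, Nat.card_zpowers, hz'])
  have hnc := nc ht e hG
  obtain ⟨h1, h2, -⟩ := SmallSimple.card_sylow_facts (p := 13) hnc (by rw [hG]; norm_num)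
  have hdvd : Nat.card (Sylow 13 G) ∣ 432 := by
    have h := P.card_dvd_index
    have hi := (P : Subgroup G).card_mul_index
    rw [hPc, hG] at hi
    rwa [show (P : Subgroup G).index = 432 by omega] at h
  have key : ∀ k ∈ Nat.divisors 432, 1 < k → k % 13 = 1 → k = 27 ∨ k = 144 := by decide +kernel
  have hNi := (normalizer ((P : Subgroup G) : Set G)).card_mul_index
  rw [← SmallSimple.card_sylow_eq_index P, hG] at hNi
  have hyC : y ∈ centralizer ((P : Subgroup G) : Set G) := by
    rw [← hPz, mem_centralizer_iff]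
    rintro _ ⟨j, rfl⟩
    exact ((show Commute (z : G) y from mem_centralizer_singleton_iff.1 z.2).zpow_left j).eq
  have hy3 : 3 ∣ Nat.card (normalizer ((P : Subgroup G) : Set G)) := by
    have := orderOf_dvd_natCard (⟨y, centralizer_le_normalizer _ hyC⟩ : normalizer ((P : Subgroup G) : Set G))
    rwa [orderOf_mk, hy] at this
  rcases key _ (Nat.mem_divisors.2 ⟨hdvd, by norm_num⟩) h1 h2 with hk | hk <;> rw [hk] at hNi
  · rw [show Nat.card (normalizer ((P : Subgroup G) : Set G)) = 208 by omega] at hy3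
    norm_num at hy3
  · refine SmallSimple.not_normalizer_le_centralizer hnc P (by rw [hG]; norm_num) ?_
    have hCN : centralizer ((P : Subgroup G) : Set G) ≤ normalizer ((P : Subgroup G) : Set G) :=
      centralizer_le_normalizer _
    refine (eq_of_le_of_card_ge hCN ?_).ge
    rw [show Nat.card (normalizer ((P : Subgroup G) : Set G)) = 39 by omega]
    refine Nat.le_of_dvd Nat.card_pos ?_
    have hy' := orderOf_dvd_natCard (⟨y, hyC⟩ : centralizer ((P : Subgroup G) : Set G))
    rw [orderOf_mk, hy] at hy'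
    have hz'' := orderOf_dvd_natCard (⟨(z : G), by
      rw [← hPz, mem_centralizer_iff]
      rintro _ ⟨j, rfl⟩
      exact ((Commute.refl (z : G)).zpow_left j).eq⟩ : centralizer ((P : Subgroup G) : Set G))
    rw [orderOf_mk, hz'] at hz''
    exact Nat.Coprime.mul_dvd_of_dvd_of_dvd (by norm_num : Nat.Coprime 3 13) hy' hz''

include ht e hG in
/-- The odd part of the centraliser is a subgroup of index two and order dividing 27. -/
theorem exists_oddPart {x y : G} (hy : orderOf y = 3) (hx : x * x = 1) (hx1 : x ≠ 1) (hxy : x * y = y * x) :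
    ∃ R : Subgroup G, (∀ g, g ∈ R ↔ g * y = y * g ∧ Odd (orderOf g)) ∧
      Nat.card (centralizer ({y} : Set G)) = 2 * Nat.card R ∧ Nat.card R ∣ 27 ∧ y ∈ R := by
  haveI : Fact (Nat.Prime 2) := ⟨Nat.prime_two⟩
  set C := centralizer ({y} : Set G) with hC
  have hxC : x ∈ C := mem_centralizer_iff_commute.2 hxy
  have h2x : orderOf x = 2 := orderOf_eq_prime (by rw [sq, hx]) hx1
  have h2 : 2 ∣ Nat.card C := by
    have := orderOf_dvd_natCard (⟨x, hxC⟩ : C)
    rwa [orderOf_mk, h2x] at this
  have h4 : ¬ 4 ∣ Nat.card C := by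
    intro h4
    obtain ⟨T, hT, hle⟩ := Sylow.exists_subgroup_card_pow_succ (p := 2) (n := 1) (G := C)
      (by simpa using h4) (H := zpowers (⟨x, hxC⟩ : C)) (by rw [Nat.card_zpowers, orderOf_mk, h2x, pow_one])
    norm_num at hT
    haveI : IsMulCommutative T :=
      IsPGroup.isMulCommutative_of_card_eq_prime_sq (p := 2) (by rw [hT]; norm_num)
    have hmap : T.map C.subtype ≤ centralizer ({x} : Set G) ⊓ C := by
      rintro _ ⟨a, ha, rfl⟩
      refine ⟨mem_centralizer_iff_commute.2 ?_, a.2⟩
      have h := congrArg Subtype.val ((IsMulCommutative.is_comm (M := T)).comm ⟨a, ha⟩ ⟨⟨x, hxC⟩, hle (mem_zpowers _)⟩)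
      exact congrArg Subtype.val h
    have := card_dvd_of_le hmap
    rw [card_map_of_injective C.subtype_injective, hT, card_common ht e hx hx1 hy hxy] at this
    norm_num at this
  obtain ⟨O, hO, hmem⟩ := Perm.TwoModFour.exists_odd_index_two C (by omega)
  refine ⟨O.map C.subtype, fun g => ?_, ?_, ?_, ?_⟩
  · constructor
    · rintro ⟨a, ha, rfl⟩
      exact ⟨mem_centralizer_iff_commute.1 a.2, by rw [Subgroup.coe_subtype, Subgroup.orderOf_coe]; exact (hmem a).1 ha⟩
    · rintro ⟨hc, ho⟩
      exact ⟨⟨g, mem_centralizer_iff_commute.2 hc⟩, (hmem _).2 (by rwa [orderOf_mk]), rfl⟩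
  · rw [card_map_of_injective C.subtype_injective, ← O.card_mul_index, hO, mul_comm]
  · have hoC := O.card_mul_index
    rw [hO] at hoC
    rw [card_map_of_injective C.subtype_injective]
    have hd : Nat.card C ∣ 5616 := hG ▸ card_subgroup_dvd_card C
    have hdO : Nat.card O ∣ 432 * 13 := (Dvd.intro 2 hoC).trans hd
    have h13 : (Nat.card O).Coprime 13 :=
      ((by norm_num : Nat.Prime 13).coprime_iff_not_dvd.2 fun h =>
        not_thirteen ht e hG hy hx hx1 hxy (h.trans (Dvd.intro 2 hoC))).symm
    have h432 : Nat.card O ∣ 27 * 16 := by simpa using h13.dvd_of_dvd_mul_right hdO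
    have hodd : (Nat.card O).Coprime 16 := by
      refine (Nat.Coprime.pow_left 4 ((Nat.prime_two.coprime_iff_not_dvd).2 ?_)).symm
      intro h
      exact h4 (by rw [← hoC]; exact Nat.mul_dvd_mul h (dvd_refl 2))
    exact hodd.dvd_of_dvd_mul_right h432
  · refine ⟨⟨y, mem_centralizer_iff_commute.2 rfl⟩, (hmem _).2 ?_, rfl⟩
    rw [orderOf_mk, hy]; decide

/-- Two commuting elements of order three generating a group of order nine. -/
theorem exists_pow_mul_pow {G : Type u} [Group G] [Finite G] {a b : G} (ha : orderOf a = 3) (hb : orderOf b = 3)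
    (hab : a * b = b * a) (hn : b ∉ zpowers a) {R : Subgroup G} (haR : a ∈ R) (hbR : b ∈ R)
    (hR : Nat.card R ≤ 9) {g : G} (hg : g ∈ R) : ∃ i < 3, ∃ j < 3, g = a ^ i * b ^ j := by
  classical
  haveI := Fintype.ofFinite R
  let f : Fin 3 × Fin 3 → R := fun q => ⟨a ^ (q.1 : ℕ) * b ^ (q.2 : ℕ), R.mul_mem (R.pow_mem haR _) (R.pow_mem hbR _)⟩
  have hbp : ∀ k : ℕ, b ^ k ∈ zpowers a → k % 3 = 0 := by
    intro k hk
    by_contra h
    apply hn
    have h' : k % 3 = 1 ∨ k % 3 = 2 := by omega
    rw [← pow_mod_orderOf, hb] at hk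
    rcases h' with h' | h' <;> rw [h'] at hk
    · simpa using hk
    · have h4 : b = (b ^ 2) ^ 2 := by rw [← pow_mul, ← pow_mod_orderOf b (2 * 2), hb]; norm_num
      rw [h4]; exact pow_mem hk 2
  have hinj : Function.Injective f := by
    rintro ⟨i, j⟩ ⟨i', j'⟩ h
    have h' : a ^ (i : ℕ) * b ^ (j : ℕ) = a ^ (i' : ℕ) * b ^ (j' : ℕ) := congrArg Subtype.val h
    have h3 : b ^ 3 = 1 := by rw [← hb]; exact pow_orderOf_eq_one b
    have hj : ((j : ℕ) + (3 - (j' : ℕ))) % 3 = 0 := by
      refine hbp _ ?_
      have e1 : a ^ (i : ℕ) * b ^ ((j : ℕ) + (3 - (j' : ℕ))) = a ^ (i' : ℕ) := by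
        rw [pow_add, ← mul_assoc, h', mul_assoc, ← pow_add,
          show (j' : ℕ) + (3 - (j' : ℕ)) = 3 by have := j'.isLt; omega, h3, mul_one]
      have : b ^ ((j : ℕ) + (3 - (j' : ℕ))) = (a ^ (i : ℕ))⁻¹ * a ^ (i' : ℕ) := by
        rw [← e1, inv_mul_cancel_left]
      rw [this]
      exact mul_mem (inv_mem (pow_mem (mem_zpowers a) _)) (pow_mem (mem_zpowers a) _)
    have hj' : j = j' := Fin.ext (by have := j.isLt; have := j'.isLt; omega)
    subst hj'
    have hi := mul_right_cancel h'
    rw [pow_inj_mod, ha] at hi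
    have hii : i = i' := Fin.ext (by have := i.isLt; have := i'.isLt; omega)
    rw [hii]
  have hsurj : Function.Surjective f := by
    refine ((Fintype.bijective_iff_injective_and_card f).2 ⟨hinj, ?_⟩).2
    have := Fintype.card_le_of_injective f hinj
    have h9 : Fintype.card R ≤ 9 := by rwa [← Nat.card_eq_fintype_card]
    simp only [Fintype.card_prod, Fintype.card_fin] at this ⊢
    omega
  obtain ⟨⟨i, j⟩, h⟩ := hsurj ⟨g, hg⟩
  exact ⟨i, i.isLt, j, j.isLt, (congrArg Subtype.val h).symm⟩

theorem card_centralizer_conj {G : Type u} [Group G] [Finite G] {a b : G} (h : IsConj a b) :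
    Nat.card (centralizer ({a} : Set G)) = Nat.card (centralizer ({b} : Set G)) := by
  obtain ⟨g, rfl⟩ := isConj_iff.1 h
  exact Nat.card_congr (centConj g a).toEquiv

/-- An element normalising a subgroup of order three with odd order centralises it. -/
theorem commute_of_conj_mem {G : Type u} [Group G] [Finite G] {g y : G} (hy : orderOf y = 3)
    (hg : Odd (orderOf g)) {i : ℕ} (h : g * y * g⁻¹ = y ^ i) : g * y = y * g := by
  haveI : Fact (Nat.Prime 3) := ⟨Nat.prime_three⟩
  have hgN : g ∈ normalizer ((zpowers y : Subgroup G) : Set G) := by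
    have hsub : (zpowers y).map (MulAut.conj g).toMonoidHom = zpowers y := by
      refine eq_of_le_of_card_ge ?_ (card_map_of_injective (MulAut.conj g).injective).ge
      rw [MonoidHom.map_zpowers, zpowers_le]
      show g * y * g⁻¹ ∈ zpowers y
      rw [h]; exact pow_mem (mem_zpowers y) i
    rw [mem_normalizer_iff]
    intro z
    constructor
    · intro hz
      rw [← hsub]
      exact ⟨z, hz, rfl⟩
    · intro hz
      rw [← hsub] at hz
      obtain ⟨z', hz', he⟩ := hz
      have : z' = z := (MulAut.conj g).injective he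
      exact this ▸ hz'
  have hc := SmallSimple.mem_centralizer_of_coprime (zpowers y) (by rw [Nat.card_zpowers, hy]) hgN
    (Nat.coprime_two_right.2 hg)
  exact ((mem_centralizer_iff.1 hc) y (mem_zpowers y)).symm

include ht e hG in
/-- The centraliser has order 54. -/
theorem card_cent {y v : G} (hy : orderOf y = 3) (hty : t * y = y * t) (hv : v * v = 1) (hv1 : v ≠ 1)
    (hvt : v * t = t * v) (hvne : v ≠ t) (hvy : v * y * v = y⁻¹) :
    Nat.card (centralizer ({y} : Set G)) = 54 := by
  have htt := t_mul_t ht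
  obtain ⟨R, hR, hCR, hR27, hyR⟩ := exists_oddPart ht e hG hy htt (t_ne_one ht) hty
  by_contra hne
  haveI : Fact (Nat.Prime 3) := ⟨Nat.prime_three⟩
  have hRlt : Nat.card R ≤ 9 := by
    have : Nat.card R ∈ Nat.divisors 27 := Nat.mem_divisors.2 ⟨hR27, by norm_num⟩
    have key : ∀ k ∈ Nat.divisors 27, k = 27 ∨ k ≤ 9 := by decide
    rcases key _ this with h | h
    · rw [h] at hCR; exact absurd hCR hne
    · exact h
  have hRp : IsPGroup 3 R := by
    obtain ⟨k, -, hk⟩ := (Nat.dvd_prime_pow Nat.prime_three).1 (show Nat.card R ∣ 3 ^ 3 by norm_num; exact hR27)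
    exact IsPGroup.of_card hk
  obtain ⟨P, hP⟩ := hRp.exists_le_sylow
  have hPc : Nat.card (P : Subgroup G) = 27 :=
    (SmallSimple.card_sylow_subgroup P (k := 3) (m := 208) (by rw [hG]; norm_num) (by norm_num)).trans (by norm_num)
  haveI : Nontrivial (P : Subgroup G) := Finite.one_lt_card_iff_nontrivial.1 (by rw [hPc]; norm_num)
  haveI := P.isPGroup'.center_nontrivial
  obtain ⟨k, hk⟩ := IsPGroup.iff_card.1 (P.isPGroup'.to_subgroup (center (P : Subgroup G)))
  have hk0 : k ≠ 0 := by
    rintro rfl
    have := Finite.one_lt_card (α := center (P : Subgroup G))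
    rw [hk] at this; norm_num at this
  obtain ⟨z0, hz0⟩ := exists_prime_orderOf_dvd_card' (G := center (P : Subgroup G)) 3 (by rw [hk]; exact dvd_pow_self 3 hk0)
  set z : G := ((z0 : (P : Subgroup G)) : G) with hzdef
  have hz : orderOf z = 3 := by rw [hzdef, Subgroup.orderOf_coe, Subgroup.orderOf_coe, hz0]
  have hzc : ∀ g ∈ (P : Subgroup G), g * z = z * g := fun g hg =>
    congrArg Subtype.val (mem_center_iff.1 z0.2 ⟨g, hg⟩)
  have hodd : ∀ g ∈ (P : Subgroup G), Odd (orderOf g) := fun g hg => by
    have h := orderOf_dvd_natCard (⟨g, hg⟩ : (P : Subgroup G))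
    rw [orderOf_mk, hPc] at h
    exact Odd.of_dvd_nat (by decide) h
  have hzR : z ∈ R := (hR z).2 ⟨(hzc y (hP hyR)).symm, by rw [hz]; decide⟩
  have hzn : z ∉ zpowers y := by
    intro hmem
    have hsub : (P : Subgroup G) ≤ R := by
      intro g hg
      refine (hR g).2 ⟨?_, hodd g hg⟩
      have hyz : y ∈ zpowers z := by
        have : zpowers z = zpowers y := eq_of_le_of_card_ge (zpowers_le.2 hmem) (by rw [Nat.card_zpowers, Nat.card_zpowers, hy, hz])
        rw [this]; exact mem_zpowers y
      obtain ⟨j, rfl⟩ := hyz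
      exact ((show Commute g z from hzc g hg).zpow_right j).eq
    have := card_dvd_of_le hsub
    rw [hPc] at this
    have := Nat.le_of_dvd Nat.card_pos this
    omega
  have h18 : Nat.card (centralizer ({y} : Set G)) ≤ 18 := by omega
  have hbig : ∀ g : G, IsConj y g → Nat.card (centralizer ({g} : Set G)) ≤ 18 := fun g h =>
    card_centralizer_conj h ▸ h18
  have hzbig : 27 ≤ Nat.card (centralizer ({z} : Set G)) := by
    rw [← hPc]
    exact Nat.le_of_dvd Nat.card_pos (card_dvd_of_le fun g hg => mem_centralizer_iff_commute.2 (hzc g hg))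
  have hnoinv : ∀ x : G, x * x = 1 → x ≠ 1 → x * z ≠ z * x := fun x hx hx1 hxz => by
    have := hbig z (isConj_three ht e htt (t_ne_one ht) hy hty hx hx1 hz hxz)
    omega
  -- an element of the Sylow subgroup moving `y`
  obtain ⟨g, hgP, hgR⟩ : ∃ g ∈ (P : Subgroup G), g ∉ R := by
    by_contra hc
    push Not at hc
    have := Nat.le_of_dvd Nat.card_pos (card_dvd_of_le (show (P : Subgroup G) ≤ R from hc))
    omega
  have hgy : ¬ g * y = y * g := fun h => hgR ((hR g).2 ⟨h, hodd g hgP⟩)
  have hR9 : Nat.card R = 9 := by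
    have key : ∀ k ∈ Nat.divisors 27, k ≤ 9 → k = 1 ∨ k = 3 ∨ k = 9 := by decide
    rcases key _ (Nat.mem_divisors.2 ⟨hR27, by norm_num⟩) hRlt with h | h | h
    · have := orderOf_dvd_natCard (⟨y, hyR⟩ : R)
      rw [orderOf_mk, hy, h] at this; norm_num at this
    · refine absurd ?_ hzn
      have hRy : zpowers y = R := eq_of_le_of_card_ge (zpowers_le.2 hyR) (by rw [h, Nat.card_zpowers, hy])
      rw [hRy]; exact hzR
    · exact h
  haveI hRn : (R.subgroupOf (P : Subgroup G)).Normal := by
    have hidx : (R.subgroupOf (P : Subgroup G)).index = 3 := by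
      have h := (R.subgroupOf (P : Subgroup G)).card_mul_index
      rw [Nat.card_congr (subgroupOfEquivOfLe hP).toEquiv, hR9, hPc] at h
      omega
    exact normal_of_index_eq_minFac_card (by rw [hidx, hPc]; norm_num)
  have hgyR : g * y * g⁻¹ ∈ R := (mem_normalizer_iff.1 (((normal_subgroupOf_iff_le_normalizer hP).1 hRn) hgP) y).1 hyR
  have hyz : y * z = z * y := hzc y (hP hyR)
  obtain ⟨i, hi, j, hj, hij⟩ := exists_pow_mul_pow hy hz hyz hzn hyR hzR hRlt hgyR
  have hj0 : j ≠ 0 := by
    rintro rfl
    rw [pow_zero, mul_one] at hij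
    exact hgy (commute_of_conj_mem hy (hodd g hgP) hij)
  have hgz : g * z * g⁻¹ = z := by rw [hzc g hgP, mul_inv_cancel_right]
  have hg2 : g * g * y * (g * g)⁻¹ = (y ^ i * z ^ j) ^ i * z ^ j := by
    calc g * g * y * (g * g)⁻¹ = g * (g * y * g⁻¹) * g⁻¹ := by group
      _ = g * (y ^ i * z ^ j) * g⁻¹ := by rw [hij]
      _ = (g * y * g⁻¹) ^ i * (g * z * g⁻¹) ^ j := by rw [conj_pow, conj_pow]; group
      _ = _ := by rw [hij, hgz]
  have hi1 : i = 1 := by
    interval_cases i
    · exfalso
      rw [pow_zero, one_mul] at hij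
      have h := hbig _ (isConj_iff.2 ⟨g, hij⟩)
      have hcz : centralizer ({z ^ j} : Set G) = centralizer ({z} : Set G) := by
        have hjpos : 0 < j := Nat.pos_of_ne_zero hj0
        interval_cases j
        · rw [pow_one]
        · refine le_antisymm (fun c hc => mem_centralizer_iff_commute.2 ?_) fun c hc =>
            mem_centralizer_iff_commute.2 ((show Commute c z from mem_centralizer_iff_commute.1 hc).pow_right 2).eq
          have h4 : z = (z ^ 2) ^ 2 := by rw [← pow_mul, ← pow_mod_orderOf z (2 * 2), hz]; norm_num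
          rw [h4]
          exact ((show Commute c (z ^ 2) from mem_centralizer_iff_commute.1 hc).pow_right 2).eq
      rw [hcz] at h
      omega
    · rfl
    · exfalso
      have hz3 : z ^ 3 = 1 := by rw [← hz]; exact pow_orderOf_eq_one z
      have hy3 : y ^ 3 = 1 := by rw [← hy]; exact pow_orderOf_eq_one y
      have hfix : g * g * y * (g * g)⁻¹ = y ^ 1 := by
        rw [hg2, (show Commute (y ^ 2) (z ^ j) from (show Commute y z from hyz).pow_pow 2 j).mul_pow, ← pow_mul,
          ← pow_mul, mul_assoc, ← pow_add, show j * 2 + j = 3 * j by ring, pow_mul z 3 j, hz3, one_pow, mul_one,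
          show 2 * 2 = 3 + 1 by norm_num, pow_add, hy3, one_mul]
      have hc := commute_of_conj_mem hy (hodd _ ((P : Subgroup G).mul_mem hgP hgP)) hfix
      apply hgy
      obtain ⟨m, hm⟩ := hodd g hgP
      have hgg : g = (g * g) ^ (m + 1) := by
        rw [← sq, ← pow_mul, show 2 * (m + 1) = orderOf g + 1 by omega, pow_succ, pow_orderOf_eq_one, one_mul]
      rw [hgg]
      exact ((show Commute (g * g) y from hc).pow_left (m + 1)).eq
  subst hi1
  rw [pow_one] at hij hg2
  -- the conjugates of `y` are small, so the large elements of `R` lie in the centre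
  have hsmall : ∀ j' < 3, Nat.card (centralizer ({y * z ^ j'} : Set G)) ≤ 18 := by
    intro j' hj'
    rcases Nat.eq_zero_or_pos j' with rfl | hpos
    · rw [pow_zero, mul_one]; exact h18
    · by_cases he : j' = j
      · subst he; exact hij ▸ hbig _ (isConj_iff.2 ⟨g, rfl⟩)
      · have hjj : z ^ j' = z ^ j * z ^ j := by
          rw [← pow_add]
          refine pow_eq_pow_iff_modEq.2 ?_
          rw [hz]; unfold Nat.ModEq
          interval_cases j <;> interval_cases j' <;> first | rfl | omega
        rw [hjj, ← mul_assoc, pow_one] at *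
        exact hg2 ▸ hbig _ (isConj_iff.2 ⟨g * g, rfl⟩)
  have hlarge : ∀ r ∈ R, 27 ≤ Nat.card (centralizer ({r} : Set G)) → r ≠ 1 → r = z ∨ r = z⁻¹ := by
    intro r hr hr27 hr1
    obtain ⟨a, ha, b, hb, rfl⟩ := exists_pow_mul_pow hy hz hyz hzn hyR hzR hRlt hr
    interval_cases a
    · rw [pow_zero, one_mul] at hr1 ⊢
      interval_cases b
      · exact absurd (pow_zero z) hr1
      · exact Or.inl (pow_one z)
      · right
        refine eq_inv_of_mul_eq_one_left ?_
        rw [← pow_succ, show 2 + 1 = orderOf z from hz.symm, pow_orderOf_eq_one]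
    · rw [pow_one] at hr27
      have := hsmall b hb
      omega
    · exfalso
      have hinv : (y ^ 2 * z ^ b)⁻¹ = y * z ^ ((3 - b) % 3) := by
        refine inv_eq_of_mul_eq_one_right ?_
        rw [show y ^ 2 * z ^ b * (y * z ^ ((3 - b) % 3)) = y ^ 2 * (z ^ b * y) * z ^ ((3 - b) % 3) by group,
          ((show Commute z y from hyz.symm).pow_left b).eq,
          show y ^ 2 * (y * z ^ b) * z ^ ((3 - b) % 3) = y ^ 3 * (z ^ b * z ^ ((3 - b) % 3)) by group,
          ← pow_add]
        have e3 : (b + (3 - b) % 3) % 3 = 0 := by omega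
        rw [← pow_mod_orderOf z (b + (3 - b) % 3), hz, e3, pow_zero, mul_one, ← hy, pow_orderOf_eq_one]
      have heq : centralizer ({y ^ 2 * z ^ b} : Set G) = centralizer ({y * z ^ ((3 - b) % 3)} : Set G) := by
        rw [← hinv]
        ext c
        rw [mem_centralizer_iff_commute, mem_centralizer_iff_commute]
        exact (Commute.inv_right_iff (a := c) (b := y ^ 2 * z ^ b)).symm
      rw [heq] at hr27
      have := hsmall ((3 - b) % 3) (Nat.mod_lt _ (by norm_num))
      omega
  have himage : ∀ x : G, x * x = 1 → (x * y * x = y ∨ x * y * x = y⁻¹) → x * z * x = z ∨ x * z * x = z⁻¹ := by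
    intro x hx hxy
    have hxi : x⁻¹ = x := inv_eq_of_mul_eq_one_right hx
    have hcz : x * z * x * y = y * (x * z * x) := by
      have h1 : ∀ y' : G, y' * z = z * y' → x * z * x * (x * y' * x) = x * y' * x * (x * z * x) := by
        intro y' h
        rw [show x * z * x * (x * y' * x) = x * z * (x * x) * y' * x by group,
          show x * y' * x * (x * z * x) = x * y' * (x * x) * z * x by group, hx]
        simp only [mul_one, mul_assoc]
        rw [← mul_assoc z, ← h, mul_assoc]
      rcases hxy with h | h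
      · have := h1 y hyz
        rwa [h] at this
      · have := h1 y hyz
        rw [h] at this
        exact (Commute.inv_right_iff.1 (show Commute (x * z * x) y⁻¹ from this)).eq
    have hconj : x * z * x = x * z * x⁻¹ := by rw [hxi]
    have hmem : x * z * x ∈ R :=
      (hR _).2 ⟨hcz, by rw [hconj, show x * z * x⁻¹ = MulAut.conj x z from rfl, MulEquiv.orderOf_eq, hz]; decide⟩
    refine hlarge _ hmem ?_ ?_
    · rw [hconj, ← card_centralizer_conj (isConj_iff.2 ⟨x, rfl⟩)]; exact hzbig
    · rw [hconj, Ne, conj_eq_one_iff]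
      intro h; rw [h, orderOf_one] at hz; norm_num at hz
  have hcomm : ∀ x : G, x * x = 1 → x * z * x = z → x * z = z * x := fun x hx h => by
    calc x * z = x * z * (x * x) := by rw [hx, mul_one]
      _ = (x * z * x) * x := by group
      _ = z * x := by rw [h]
  rcases himage t htt (Or.inl (by rw [hty, mul_assoc, htt, mul_one])) with h | h
  · exact hnoinv t htt (t_ne_one ht) (hcomm t htt h)
  rcases himage v hv (Or.inr hvy) with h' | h'
  · exact hnoinv v hv hv1 (hcomm v hv h')
  have htv : t * v * (t * v) = 1 := by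
    rw [show t * v * (t * v) = t * (v * t) * v by group, hvt, show t * (t * v) * v = t * t * (v * v) by group, htt,
      hv, one_mul]
  have htv1 : t * v ≠ 1 := fun h => hvne (mul_left_cancel (h.trans htt.symm))
  refine hnoinv (t * v) htv htv1 (hcomm _ htv ?_)
  have hvz : v * z⁻¹ * v = z := by
    have := congrArg (·⁻¹) h'
    simp only [mul_inv_rev, inv_inv, inv_eq_of_mul_eq_one_right hv] at this
    rw [← mul_assoc] at this
    exact this
  calc t * v * z * (t * v) = t * (v * z * t) * v := by group
    _ = t * (v * (t * (t * z * t))) * v := by rw [show t * (t * z * t) = t * t * z * t by group, htt, one_mul]; group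
    _ = t * (v * t * z⁻¹) * v := by rw [h]; group
    _ = t * t * (v * z⁻¹ * v) := by rw [hvt]; group
    _ = z := by rw [htt, hvz, one_mul]

end Cfsg.Agent.Lib.GLTwoThree
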